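import Groth.Agent.Lib.FibreDim6.Generic
import Mathlib.AlgebraicGeometry.IdealSheaf.Subscheme
import Mathlib.AlgebraicGeometry.Fiber

/-!
# Closed subsets near the generic fibre
-/

universe u

open CategoryTheory Limits AlgebraicGeometry TopologicalSpace Topology

set_option linter.style.haveILetI false

noncomputable section

namespace GrothLib.FibreDim6

variable {X Y : Scheme.{u}}

/-- The reduced closed subscheme on a closed subset. -/
abbrev redSub (Z : Closeds X) : (Scheme.IdealSheafData.vanishingIdeal Z).subscheme ⟶ X :=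
  (Scheme.IdealSheafData.vanishingIdeal Z).subschemeι

theorem range_redSub (Z : Closeds X) : Set.range (redSub Z) = (Z : Set X) := by
  rw [Scheme.IdealSheafData.range_subschemeι]
  simp

theorem topologicalKrullDim_eq_bot_iff {α : Type*} [TopologicalSpace α] :
    topologicalKrullDim α = ⊥ ↔ IsEmpty α := by
  rw [topologicalKrullDim, Order.krullDim_eq_bot_iff]
  exact ⟨fun h => ⟨fun a => h.false ⟨closure {a}, isIrreducible_singleton.closure, isClosed_closure⟩⟩,
    fun h => ⟨fun Z => h.false Z.isIrreducible.nonempty.some⟩⟩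

/-- The trace of a closed set on the fibre, as a space. -/
theorem dim_fiber_redSub (f : X ⟶ Y) (Z : Closeds X) (y : Y) :
    topologicalKrullDim ↥((redSub Z ≫ f).fiber y) = topologicalKrullDim ↥((Z : Set X) ∩ f ⁻¹' {y}) := by
  rw [IsHomeomorph.topologicalKrullDim_eq _ ((redSub Z ≫ f).fiberHomeo y).isHomeomorph]
  refine GrothLib.Dim.IsEmbedding.topologicalKrullDim_eq
    (f := fun z : (redSub Z ≫ f) ⁻¹' {y} => redSub Z z.1)
    ((redSub Z).isClosedEmbedding.isEmbedding.comp IsEmbedding.subtypeVal) ?_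
  ext x
  constructor
  · rintro ⟨⟨z, hz⟩, rfl⟩
    exact ⟨(range_redSub Z).subset ⟨z, rfl⟩, by simpa using hz⟩
  · rintro ⟨hxZ, hx⟩
    obtain ⟨z, rfl⟩ := (range_redSub Z).symm.subset hxZ
    exact ⟨⟨z, by simpa using hx⟩, rfl⟩

/-- A finite cover by disjoint nonempty closed sets bounds the number of connected components. -/
theorem exists_injective_connectedComponents {W : Type*} [TopologicalSpace W] {ι : Type*} [Finite ι]
    (D : ι → Set W) (hD : ∀ i, IsClosed (D i)) (hne : ∀ i, (D i).Nonempty)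
    (hdisj : ∀ i j, i ≠ j → Disjoint (D i) (D j)) (hcov : ∀ w, ∃ i, w ∈ D i) :
    ∃ φ : ι → _root_.ConnectedComponents W, Function.Injective φ := by
  classical
  have hcl : ∀ k, IsClopen (D k) := fun k => by
    refine ⟨hD k, ?_⟩
    have : D k = (⋃ l : {l // l ≠ k}, D l.1)ᶜ := by
      ext z
      constructor
      · intro hz hz'
        obtain ⟨⟨l, hl⟩, hzl⟩ := Set.mem_iUnion.mp hz'
        exact Set.disjoint_left.mp (hdisj k l (Ne.symm hl)) hz hzl
      · intro hz
        obtain ⟨l, hl⟩ := hcov z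
        by_cases hlk : l = k
        · exact hlk ▸ hl
        · exact absurd (Set.mem_iUnion.mpr ⟨⟨l, hlk⟩, hl⟩) hz
    rw [this]
    exact (isClosed_iUnion_of_finite fun l : {l // l ≠ k} => hD l.1).isOpen_compl
  choose z hz using hne
  refine ⟨fun k => _root_.ConnectedComponents.mk (z k), fun k l hkl => not_not.mp fun hne' => ?_⟩
  have hlk : z l ∈ connectedComponent (z k) := by
    rw [_root_.ConnectedComponents.coe_eq_coe.mp hkl]
    exact mem_connectedComponent
  exact Set.disjoint_left.mp (hdisj k l hne') ((hcl k).connectedComponent_subset (hz k) hlk) (hz l)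

variable (f : X ⟶ Y) [LocallyOfFiniteType f] [QuasiCompact f] [IrreducibleSpace Y]

theorem exists_dim_trace_eq (Z : Closeds X) :
    ∃ V : Y.Opens, (V : Set Y).Nonempty ∧ ∀ y ∈ V, topologicalKrullDim ↥((Z : Set X) ∩ f ⁻¹' {y}) =
      topologicalKrullDim ↥((Z : Set X) ∩ f ⁻¹' {genericPoint Y}) := by
  obtain ⟨V, hV, h⟩ := exists_dim_fiber_eq (redSub Z ≫ f)
  exact ⟨V, hV, fun y hy => by rw [← dim_fiber_redSub, ← dim_fiber_redSub]; exact h y hy⟩

theorem exists_trace_nonempty_iff (Z : Closeds X) :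
    ∃ V : Y.Opens, (V : Set Y).Nonempty ∧ ∀ y ∈ V,
      (((Z : Set X) ∩ f ⁻¹' {y}).Nonempty ↔ ((Z : Set X) ∩ f ⁻¹' {genericPoint Y}).Nonempty) := by
  obtain ⟨V, hV, h⟩ := exists_dim_trace_eq f Z
  refine ⟨V, hV, fun y hy => ?_⟩
  rw [Set.nonempty_iff_ne_empty, Set.nonempty_iff_ne_empty, not_iff_not, ← Set.isEmpty_coe_sort,
    ← Set.isEmpty_coe_sort, ← topologicalKrullDim_eq_bot_iff, ← topologicalKrullDim_eq_bot_iff, h y hy]

theorem exists_open_inter {ι : Type*} [Finite ι] (V : ι → Y.Opens) (hV : ∀ i, (V i : Set Y).Nonempty) :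
    ∃ W : Y.Opens, (W : Set Y).Nonempty ∧ ∀ i, W ≤ V i :=
  ⟨⟨⋂ i, (V i : Set Y), isOpen_iInter_of_finite fun i => (V i).2⟩,
    ⟨genericPoint Y, Set.mem_iInter.mpr fun i =>
      ((genericPoint_spec Y).mem_open_set_iff (V i).2).mpr (by simpa using hV i)⟩,
    fun i _ hx => Set.mem_iInter.mp hx i⟩

omit [LocallyOfFiniteType f] [QuasiCompact f] in
theorem closure_inter_generic {C : Set ↥(f.fiber (genericPoint Y))} (hC : IsClosed C) :
    closure (f.fiberι (genericPoint Y) '' C) ∩ f ⁻¹' {genericPoint Y} = f.fiberι (genericPoint Y) '' C := by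
  have he := (f.fiberι (genericPoint Y)).isEmbedding
  rw [← f.range_fiberι, ← Set.image_preimage_eq_inter_range, ← he.closure_eq_preimage_closure_image,
    hC.closure_eq]

theorem exists_closures_cover {ι : Type*} [Finite ι] (Z : ι → Set ↥(f.fiber (genericPoint Y)))
    (hcov : ⋃ i, Z i = Set.univ) :
    ∃ V : Y.Opens, (V : Set Y).Nonempty ∧
      ∀ x, f x ∈ V → ∃ i, x ∈ closure (f.fiberι (genericPoint Y) '' Z i) := by
  obtain ⟨V, hV, h⟩ := exists_forall_mem_of_generic_subset f
  refine ⟨V, hV, fun x hx => Set.mem_iUnion.mp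
    (h _ (isClosed_iUnion_of_finite fun i => isClosed_closure) (fun x hx => ?_) x hx)⟩
  obtain ⟨z, rfl⟩ := (f.range_fiberι _).symm.subset hx
  obtain ⟨i, hi⟩ := Set.mem_iUnion.mp (hcov.symm.subset (Set.mem_univ z))
  exact Set.mem_iUnion.mpr ⟨i, subset_closure ⟨z, hi, rfl⟩⟩

/-- Disjoint closed pieces of the generic fibre give disjoint closed pieces of nearby fibres. -/
theorem exists_le_card_connectedComponents
    [Finite (_root_.ConnectedComponents ↥(f.fiber (genericPoint Y)))] :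
    ∃ V : Y.Opens, (V : Set Y).Nonempty ∧ ∀ y ∈ V,
      ∃ φ : _root_.ConnectedComponents ↥(f.fiber (genericPoint Y)) → _root_.ConnectedComponents ↥(f.fiber y),
        Function.Injective φ := by
  classical
  let η := genericPoint Y
  let C : _root_.ConnectedComponents ↥(f.fiber η) → Set ↥(f.fiber η) := fun k => _root_.ConnectedComponents.mk ⁻¹' {k}
  have hC : ∀ k, IsClosed (C k) := fun k => by
    obtain ⟨x, rfl⟩ := _root_.ConnectedComponents.surjective_coe k
    rw [show C (_root_.ConnectedComponents.mk x) = connectedComponent x from connectedComponents_preimage_singleton]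
    exact isClosed_connectedComponent
  let T : _root_.ConnectedComponents ↥(f.fiber η) → Closeds X :=
    fun k => ⟨closure (f.fiberι η '' C k), isClosed_closure⟩
  have hTη : ∀ k, (T k : Set X) ∩ f ⁻¹' {η} = f.fiberι η '' C k := fun k => closure_inter_generic f (hC k)
  obtain ⟨V₁, hV₁, h₁⟩ := exists_closures_cover f C
    (Set.eq_univ_of_forall fun x => Set.mem_iUnion.mpr ⟨_, rfl⟩)
  choose V₂ hV₂ h₂ using fun k => exists_trace_nonempty_iff f (T k)
  choose V₃ hV₃ h₃ using fun p : _root_.ConnectedComponents ↥(f.fiber η) × _root_.ConnectedComponents ↥(f.fiber η) =>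
    exists_trace_nonempty_iff f (T p.1 ⊓ T p.2)
  obtain ⟨V, hV, hle⟩ := exists_open_inter
    (ι := Unit ⊕ _root_.ConnectedComponents ↥(f.fiber η) ⊕ (_root_.ConnectedComponents ↥(f.fiber η) × _root_.ConnectedComponents ↥(f.fiber η)))
    (Sum.elim (fun _ => V₁) (Sum.elim V₂ V₃))
    (by rintro (_ | k | p); exacts [hV₁, hV₂ k, hV₃ p])
  refine ⟨V, hV, fun y hy => ?_⟩
  let D : _root_.ConnectedComponents ↥(f.fiber η) → Set ↥(f.fiber y) := fun k => f.fiberι y ⁻¹' (T k : Set X)
  have hfy : ∀ z, f (f.fiberι y z) = y := fun z => by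
    simpa using (f.range_fiberι y).subset ⟨z, rfl⟩
  have hdisj : ∀ k l, k ≠ l → Disjoint (D k) (D l) := fun k l hkl => Set.disjoint_left.mpr fun z hk hl => by
    obtain ⟨x, ⟨hxk, hxl⟩, hx⟩ := (h₃ (k, l) y (hle (.inr (.inr (k, l))) hy)).mp
      ⟨f.fiberι y z, ⟨hk, hl⟩, hfy z⟩
    obtain ⟨a, ha, rfl⟩ := (hTη k).subset ⟨hxk, hx⟩
    obtain ⟨b, hb, hab⟩ := (hTη l).subset ⟨hxl, hx⟩
    exact hkl (ha.symm.trans ((f.fiberι η).isEmbedding.injective hab ▸ hb))
  refine exists_injective_connectedComponents D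
    (fun k => (T k).isClosed.preimage (f.fiberι y).continuous) (fun k => ?_) hdisj
    fun z => h₁ (f.fiberι y z) (by rw [hfy]; exact hle (.inl ()) hy)
  obtain ⟨a, ha⟩ := _root_.ConnectedComponents.surjective_coe k
  obtain ⟨x, hxT, hx⟩ := (h₂ k y (hle (.inr (.inl k)) hy)).mpr
    ⟨f.fiberι η a, subset_closure ⟨a, ha, rfl⟩, (f.range_fiberι η).subset ⟨a, rfl⟩⟩
  obtain ⟨z, rfl⟩ := (f.range_fiberι y).symm.subset hx
  exact ⟨z, hxT⟩

end GrothLib.FibreDim6
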