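import Groth.Agent.Lib.FibreDim6.Affine
import Mathlib.AlgebraicGeometry.Morphisms.QuasiSeparated

/-!
# Dimension of the fibres: generic constancy and constructibility
-/

universe u v

open CategoryTheory Limits AlgebraicGeometry TopologicalSpace

set_option linter.style.haveILetI false

noncomputable section

namespace GrothLib.FibreDim6

/-- A function with finitely many values and constructible level sets. -/
def IsConstrFun {X : Type u} [TopologicalSpace X] {T : Type v} (h : X → T) : Prop :=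
  (∀ t, Topology.IsConstructible (h ⁻¹' {t})) ∧ (Set.range h).Finite

theorem isConstructible_biUnion {X : Type u} [TopologicalSpace X] {ι : Type*} {s : Set ι} (hs : s.Finite)
    {A : ι → Set X} (h : ∀ i ∈ s, Topology.IsConstructible (A i)) : Topology.IsConstructible (⋃ i ∈ s, A i) := by
  induction s, hs using Set.Finite.induction_on with
  | empty => simp
  | @insert a s _ _ ih =>
    rw [Set.biUnion_insert]
    exact (h a (Set.mem_insert a s)).union (ih fun i hi => h i (Set.mem_insert_of_mem a hi))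

theorem IsConstrFun.comp {X : Type u} [TopologicalSpace X] {T : Type v} {T' : Type*} {h : X → T}
    (hh : IsConstrFun h) (φ : T → T') : IsConstrFun (φ ∘ h) := by
  refine ⟨fun t => ?_, (hh.2.image φ).subset (by rintro _ ⟨x, rfl⟩; exact ⟨h x, ⟨x, rfl⟩, rfl⟩)⟩
  have : (φ ∘ h) ⁻¹' {t} = ⋃ a ∈ Set.range h ∩ φ ⁻¹' {t}, h ⁻¹' {a} := by
    ext x; simp
  rw [this]
  exact isConstructible_biUnion (hh.2.subset Set.inter_subset_left) fun a _ => hh.1 a

theorem IsConstrFun.pi {X : Type u} [TopologicalSpace X] {ι : Type*} [Finite ι] {T : Type v}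
    {h : ι → X → T} (hh : ∀ i, IsConstrFun (h i)) : IsConstrFun (fun x i => h i x) := by
  classical
  refine ⟨fun t => ?_, (Set.Finite.pi fun i => (hh i).2).subset ?_⟩
  · have : (fun x i => h i x) ⁻¹' {t} = ⋂ i, h i ⁻¹' {t i} := by
      ext x; simp [funext_iff]
    rw [this, ← compl_compl (⋂ i, h i ⁻¹' {t i}), Set.compl_iInter, ← Set.biUnion_univ]
    exact (isConstructible_biUnion Set.finite_univ fun i _ => ((hh i).1 (t i)).compl).compl
  · rintro _ ⟨x, rfl⟩ i -
    exact ⟨x, rfl⟩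

/-- Over an affine base, a finitely presented affine morphism has constructible fibre dimension. -/
theorem isConstrFun_dim_fiber_affine {X S : Scheme.{u}} (f : X ⟶ S) [IsAffine X] [IsAffine S]
    [LocallyOfFinitePresentation f] :
    IsConstrFun (fun s : S => topologicalKrullDim ↥(f.fiber s)) := by
  letI := f.appTop.hom.toAlgebra
  have := GrothLib.Approx6.finitePresentation_appTop f
  obtain ⟨A₀, B₀, _, _, hA, -, hB, ⟨e⟩⟩ := GrothLib.Approx6.exists_model Γ(S, ⊤) Γ(X, ⊤) ∅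
  have : Algebra.FiniteType ℤ A₀ := A₀.fg_iff_finiteType.mp hA
  have : IsNoetherianRing A₀ := Algebra.FiniteType.isNoetherianRing ℤ A₀
  haveI := GrothLib.Approx6.locallyOfFiniteType_map (A₀ := A₀) (B₀ := B₀)
  obtain ⟨g, g', h⟩ := GrothLib.Approx6.isPullback_model f A₀ B₀ e
  have key : ∀ s : S, topologicalKrullDim ↥(f.fiber s) =
      ringKrullDim ((show PrimeSpectrum A₀ from g s).asIdeal.Fiber B₀) := fun s =>
    (GrothLib.FibreBC.topologicalKrullDim_fiber h s).trans (dim_fiber_Spec _ _ _)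
  obtain ⟨h1, h2⟩ := constructible_fiber_dim_noetherian A₀ B₀
  refine ⟨fun t => ?_, h2.subset (by rintro _ ⟨s, rfl⟩; exact ⟨_, (key s).symm⟩)⟩
  rw [show (fun s : S => topologicalKrullDim ↥(f.fiber s)) ⁻¹' {t} =
    g ⁻¹' ((fun p : PrimeSpectrum A₀ => ringKrullDim (p.asIdeal.Fiber B₀)) ⁻¹' {t}) from
      Set.ext fun s => by simp only [Set.mem_preimage, key]]
  exact g.isConstructible_preimage (h1 t)

/-- Over an affine base with irreducible space, the fibre dimension is constant on a nonempty open. -/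
theorem exists_dim_fiber_eq_affine {X S : Scheme.{u}} (f : X ⟶ S) [IsAffine X] [IsAffine S]
    [LocallyOfFiniteType f] [IrreducibleSpace S] :
    ∃ (U : Set S) (d : WithBot ℕ∞), IsOpen U ∧ U.Nonempty ∧
      ∀ s ∈ U, topologicalKrullDim ↥(f.fiber s) = d := by
  letI := f.appTop.hom.toAlgebra
  have : Algebra.FiniteType Γ(S, ⊤) Γ(X, ⊤) :=
    HasRingHomProperty.appTop @LocallyOfFiniteType f inferInstance
  haveI : IrreducibleSpace (PrimeSpectrum Γ(S, ⊤)) := by
    show IrreducibleSpace (Spec Γ(S, ⊤))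
    rw [irreducibleSpace_def, Set.top_eq_univ, ← S.isoSpec.hom.surjective.range_eq, ← Set.image_univ]
    exact (IrreducibleSpace.isIrreducible_univ _).image _ S.isoSpec.hom.continuous.continuousOn
  obtain ⟨U, d, hU, ⟨q, hq⟩, hd⟩ := exists_fiber_dim_eq_irreducible Γ(S, ⊤) Γ(X, ⊤)
  refine ⟨S.isoSpec.hom ⁻¹' U, d, hU.preimage S.isoSpec.hom.continuous, ?_,
    fun s hs => (dim_fiber_affine f s).trans (hd _ hs)⟩
  obtain ⟨s, hs⟩ := S.isoSpec.hom.surjective q
  exact ⟨s, show S.isoSpec.hom s ∈ U from hs.symm ▸ hq⟩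

/-- The fibre dimension is the supremum over a cover of the preimage of an open of the base. -/
theorem dim_fiber_eq_iSup {X Y : Scheme.{u}} (f : X ⟶ Y) (V : Y.Opens) {ι : Type*} (W : ι → X.Opens)
    (hW : ∀ i, W i ≤ f ⁻¹ᵁ V) (hcov : f ⁻¹ᵁ V ≤ ⨆ i, W i) (s : V.toScheme) :
    topologicalKrullDim ↥(f.fiber (V.ι s)) =
      ⨆ i, topologicalKrullDim ↥((f.resLE V (W i) (hW i)).fiber s) := by
  let T : Set X := f ⁻¹' {V.ι s}
  have hT : topologicalKrullDim ↥(f.fiber (V.ι s)) = topologicalKrullDim T :=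
    IsHomeomorph.topologicalKrullDim_eq _ (f.fiberHomeo (V.ι s)).isHomeomorph
  have hi : ∀ i, topologicalKrullDim ↥((f.resLE V (W i) (hW i)).fiber s) =
      topologicalKrullDim ((Subtype.val : T → X) ⁻¹' (W i : Set X) : Set T) := by
    intro i
    let r := f.resLE V (W i) (hW i)
    have hr : ∀ x, V.ι (r x) = f ((W i).ι x) := fun x => by
      rw [← Scheme.Hom.comp_apply, f.resLE_comp_ι, Scheme.Hom.comp_apply]
    rw [IsHomeomorph.topologicalKrullDim_eq _ (r.fiberHomeo s).isHomeomorph]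
    let emb : (r ⁻¹' {s} : Set (W i).toScheme) → T := fun x =>
      ⟨(W i).ι x.1, show f ((W i).ι x.1) = V.ι s by rw [← hr, show r x.1 = s from x.2]⟩
    have hcomp : Topology.IsEmbedding (Subtype.val ∘ emb) :=
      (W i).ι.isOpenEmbedding.isEmbedding.comp Topology.IsEmbedding.subtypeVal
    have hemb : Topology.IsEmbedding emb :=
      Topology.IsEmbedding.of_comp (Continuous.subtype_mk (hcomp.continuous) _) continuous_subtype_val hcomp
    refine GrothLib.Dim.IsEmbedding.topologicalKrullDim_eq hemb ?_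
    ext ⟨x, hx⟩
    constructor
    · rintro ⟨y, hy⟩
      rw [← hy]
      exact y.1.2
    · intro hxW
      exact ⟨⟨⟨x, hxW⟩, V.ι.injective ((hr ⟨x, hxW⟩).trans hx)⟩, rfl⟩
  rw [hT, iSup_congr hi]
  refine le_antisymm ?_ (iSup_le fun i => topologicalKrullDim_subspace_le T _)
  refine GrothLib.Dim.topologicalKrullDim_le_of_cover
    (fun i => (⟨_, (W i).2.preimage continuous_subtype_val⟩ : Opens T)) (fun x => ?_) fun i => le_iSup
      (fun i => topologicalKrullDim ((Subtype.val : T → X) ⁻¹' (W i : Set X) : Set T)) i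
  have hx : x.1 ∈ f ⁻¹ᵁ V := by
    show f x.1 ∈ V
    rw [show f x.1 = V.ι s from x.2]
    exact s.2
  simpa using Opens.mem_iSup.mp (hcov hx)

/-- A finite affine cover of the preimage of an affine open. -/
theorem exists_finite_cover {X Y : Scheme.{u}} (f : X ⟶ Y) [QuasiCompact f] {V : Y.Opens}
    (hV : IsAffineOpen V) :
    ∃ (ι : Type u) (_ : Finite ι) (W : ι → X.Opens), (∀ i, IsAffineOpen (W i)) ∧ (∀ i, W i ≤ f ⁻¹ᵁ V) ∧
      f ⁻¹ᵁ V ≤ ⨆ i, W i := by
  obtain ⟨s, hs, he⟩ := (isCompact_and_isOpen_iff_finite_and_eq_biUnion_affineOpens.mp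
    (⟨QuasiCompact.isCompact_preimage _ V.2 hV.isCompact, (f ⁻¹ᵁ V).2⟩ :
      IsCompact (f ⁻¹ᵁ V : Set X) ∧ IsOpen (f ⁻¹ᵁ V : Set X)))
  haveI := hs.to_subtype
  refine ⟨s, inferInstance, fun W => W.1.1, fun W => W.1.2, fun W x hx => ?_, fun x hx => ?_⟩
  · exact he.symm.subset (Set.mem_biUnion W.2 hx)
  · obtain ⟨W, hW, hxW⟩ := Set.mem_iUnion₂.mp (he.subset hx)
    exact Opens.mem_iSup.mpr ⟨⟨W, hW⟩, hxW⟩

theorem isConstrFun_dim_fiber {X Y : Scheme.{u}} (f : X ⟶ Y) [LocallyOfFinitePresentation f] [QuasiCompact f]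
    {V : Y.Opens} (hV : IsAffineOpen V) :
    IsConstrFun (fun s : V.toScheme => topologicalKrullDim ↥(f.fiber (V.ι s))) := by
  obtain ⟨ι, _, W, hWa, hW, hcov⟩ := exists_finite_cover f hV
  haveI : IsAffine V := hV
  have h : ∀ i, IsConstrFun fun s : V.toScheme => topologicalKrullDim ↥((f.resLE V (W i) (hW i)).fiber s) :=
    fun i => by
      haveI : IsAffine (W i) := hWa i
      exact isConstrFun_dim_fiber_affine _
  rw [show (fun s : V.toScheme => topologicalKrullDim ↥(f.fiber (V.ι s))) =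
    (fun v : ι → WithBot ℕ∞ => ⨆ i, v i) ∘
      (fun s i => topologicalKrullDim ↥((f.resLE V (W i) (hW i)).fiber s)) from
    funext fun s => dim_fiber_eq_iSup f V W hW hcov s]
  exact (IsConstrFun.pi h).comp _

theorem exists_dim_fiber_eq {X Y : Scheme.{u}} (f : X ⟶ Y) [LocallyOfFiniteType f] [QuasiCompact f]
    [IrreducibleSpace Y] :
    ∃ V : Y.Opens, (V : Set Y).Nonempty ∧
      ∀ y ∈ V, topologicalKrullDim ↥(f.fiber y) = topologicalKrullDim ↥(f.fiber (genericPoint Y)) := by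
  obtain ⟨_, ⟨(V : Y.Opens), hV, rfl⟩, hη, -⟩ := Y.isBasis_affineOpens.exists_subset_of_mem_open
    (Set.mem_univ (genericPoint Y)) isOpen_univ
  obtain ⟨ι, _, W, hWa, hW, hcov⟩ := exists_finite_cover f hV
  haveI : IsAffine V := hV
  haveI : IrreducibleSpace V.toScheme := by
    haveI : Nonempty V.toScheme := ⟨⟨_, hη⟩⟩
    exact V.ι.isOpenEmbedding.irreducibleSpace
  have h : ∀ i, ∃ (U : Set V.toScheme) (d : WithBot ℕ∞), IsOpen U ∧ U.Nonempty ∧
      ∀ s ∈ U, topologicalKrullDim ↥((f.resLE V (W i) (hW i)).fiber s) = d := fun i => by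
    haveI : IsAffine (W i) := hWa i
    exact exists_dim_fiber_eq_affine _
  choose U d hU hne hd using h
  have hmem : ∀ i, (⟨genericPoint Y, hη⟩ : V.toScheme) ∈ U i := fun i => by
    obtain ⟨z, hz⟩ := hne i
    have : genericPoint Y ∈ V.ι '' U i :=
      ((genericPoint_spec Y).mem_open_set_iff (V.ι.isOpenEmbedding.isOpenMap _ (hU i))).mpr
        ⟨V.ι z, trivial, z, hz, rfl⟩
    obtain ⟨w, hw, hwe⟩ := this
    rwa [show (⟨genericPoint Y, hη⟩ : V.toScheme) = w from V.ι.injective hwe.symm]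
  let U₀ : Set V.toScheme := ⋂ i, U i
  have hU₀ : IsOpen U₀ := isOpen_iInter_of_finite hU
  refine ⟨⟨V.ι '' U₀, V.ι.isOpenEmbedding.isOpenMap _ hU₀⟩,
    ⟨_, ⟨genericPoint Y, hη⟩, Set.mem_iInter.mpr hmem, rfl⟩, ?_⟩
  rintro _ ⟨s, hs, rfl⟩
  rw [show genericPoint Y = V.ι ⟨genericPoint Y, hη⟩ from rfl, dim_fiber_eq_iSup f V W hW hcov,
    dim_fiber_eq_iSup f V W hW hcov]
  exact iSup_congr fun i =>
    (hd i s (Set.mem_iInter.mp hs i)).trans (hd i _ (hmem i)).symm

end GrothLib.FibreDim6
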