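import Groth.Agent.Lib.FibreDim6.Avoid
import Groth.Agent.Lib.FibreDim6.Spread

/-!
# Specialisations of a generic point in nearby fibres avoid a closed set
-/

universe u

open CategoryTheory Limits AlgebraicGeometry TopologicalSpace

set_option linter.style.haveILetI false

noncomputable section

namespace GrothLib.FibreDim6

theorem exists_avoid_domain (A S : Type u) [CommRing A] [IsDomain A] [CommRing S] [IsDomain S]
    [Algebra A S] [Algebra.FiniteType A S] (hinj : Function.Injective (algebraMap A S)) (b : S) (hb : b ≠ 0) :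
    ∃ g : A, g ≠ 0 ∧
      (∀ w : PrimeSpectrum S, algebraMap A S g ∉ w.asIdeal → ∃ Q : PrimeSpectrum S, Q.asIdeal ≤ w.asIdeal ∧
        Q.asIdeal.comap (algebraMap A S) = w.asIdeal.comap (algebraMap A S) ∧ b ∉ Q.asIdeal) ∧
      ∀ p : PrimeSpectrum A, g ∉ p.asIdeal → ∃ w : PrimeSpectrum S, w.asIdeal.comap (algebraMap A S) = p.asIdeal := by
  obtain ⟨g, hg, h1, h2⟩ := exists_avoid_element A S hinj b hb
  refine ⟨g, hg, fun w hw => ?_, h2⟩
  let p := w.asIdeal.comap (algebraMap A S)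
  obtain ⟨Q, hQ, hQw⟩ := Ideal.exists_minimalPrimes_le (I := p.map (algebraMap A S)) (J := w.asIdeal)
    Ideal.map_comap_le
  have hQp : Q.comap (algebraMap A S) = p :=
    le_antisymm (Ideal.comap_mono hQw) (Ideal.map_le_iff_le_comap.mp hQ.1.2)
  refine ⟨⟨Q, hQ.1.1⟩, hQw, hQp, h1 ⟨Q, hQ.1.1⟩ (fun h => hw (hQw h)) fun Q' hle he => ?_⟩
  exact hQ.2 ⟨Q'.2, Ideal.map_le_iff_le_comap.mpr (hQp.symm.le.trans he.symm.le)⟩ hle

theorem exists_avoid_ring (A B : Type u) [CommRing A] [CommRing B] [Algebra A B] [Algebra.FiniteType A B]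
    [IrreducibleSpace (PrimeSpectrum A)] (q : PrimeSpectrum B)
    (hq : q.asIdeal.comap (algebraMap A B) = nilradical A) (Z : Set (PrimeSpectrum B)) (hZ : IsClosed Z)
    (hqZ : q ∉ Z) :
    ∃ U : Set (PrimeSpectrum A), IsOpen U ∧ U.Nonempty ∧
      (∀ w : PrimeSpectrum B, q.asIdeal ≤ w.asIdeal → PrimeSpectrum.comap (algebraMap A B) w ∈ U →
        ∃ Q : PrimeSpectrum B, q.asIdeal ≤ Q.asIdeal ∧ Q.asIdeal ≤ w.asIdeal ∧
          PrimeSpectrum.comap (algebraMap A B) Q = PrimeSpectrum.comap (algebraMap A B) w ∧ Q ∉ Z) ∧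
      ∀ p ∈ U, ∃ w : PrimeSpectrum B, q.asIdeal ≤ w.asIdeal ∧ PrimeSpectrum.comap (algebraMap A B) w = p := by
  let N := nilradical A
  have hN : N.IsPrime := PrimeSpectrum.irreducibleSpace_iff_isPrime_nilradical.mp ‹_›
  obtain ⟨J, rfl⟩ := (PrimeSpectrum.isClosed_iff_zeroLocus_ideal Z).mp hZ
  obtain ⟨b, hbJ, hbq⟩ := SetLike.not_le_iff_exists.mp (show ¬ J ≤ q.asIdeal from hqZ)
  let π := Ideal.Quotient.mk q.asIdeal
  let μ : A ⧸ N →+* B ⧸ q.asIdeal := Ideal.quotientMap q.asIdeal (algebraMap A B) hq.symm.le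
  letI : Algebra (A ⧸ N) (B ⧸ q.asIdeal) := μ.toAlgebra
  haveI : IsScalarTower A (A ⧸ N) (B ⧸ q.asIdeal) := IsScalarTower.of_algebraMap_eq fun x => rfl
  haveI : Algebra.FiniteType (A ⧸ N) (B ⧸ q.asIdeal) := .of_restrictScalars_finiteType A (A ⧸ N) (B ⧸ q.asIdeal)
  obtain ⟨g, hg, h1, h2⟩ := exists_avoid_domain (A ⧸ N) (B ⧸ q.asIdeal)
    (Ideal.quotientMap_injective' hq.le) (π b) fun h => hbq (Ideal.Quotient.eq_zero_iff_mem.mp h)
  obtain ⟨g, rfl⟩ := Ideal.Quotient.mk_surjective g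
  have hcomm : ∀ Q : PrimeSpectrum (B ⧸ q.asIdeal), PrimeSpectrum.comap (algebraMap A B) (PrimeSpectrum.comap π Q) =
      PrimeSpectrum.comap (Ideal.Quotient.mk N) (PrimeSpectrum.comap μ Q) := fun Q => rfl
  have hrange : ∀ w : PrimeSpectrum B, q.asIdeal ≤ w.asIdeal → ∃ Q, PrimeSpectrum.comap π Q = w := fun w hw => by
    change w ∈ Set.range (PrimeSpectrum.comap π)
    rw [range_comap_of_surjective _ _ Ideal.Quotient.mk_surjective, Ideal.mk_ker]
    exact hw
  have hle : ∀ Q : PrimeSpectrum (B ⧸ q.asIdeal), q.asIdeal ≤ (PrimeSpectrum.comap π Q).asIdeal := fun Q x hx => by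
    show π x ∈ Q.asIdeal
    rw [Ideal.Quotient.eq_zero_iff_mem.mpr hx]
    exact Q.asIdeal.zero_mem
  refine ⟨PrimeSpectrum.basicOpen g, PrimeSpectrum.isOpen_basicOpen,
    ⟨⟨N, hN⟩, fun h => hg (Ideal.Quotient.eq_zero_iff_mem.mpr h)⟩, fun w hqw hw => ?_, fun p hp => ?_⟩
  · obtain ⟨w₁, rfl⟩ := hrange w hqw
    obtain ⟨Q, hQw, hQ, hbQ⟩ := h1 w₁ hw
    exact ⟨PrimeSpectrum.comap π Q, hle Q, Ideal.comap_mono hQw,
      by rw [hcomm, hcomm, show PrimeSpectrum.comap μ Q = PrimeSpectrum.comap μ w₁ from PrimeSpectrum.ext hQ],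
      fun h => hbQ (h hbJ)⟩
  · obtain ⟨p₁, rfl⟩ : p ∈ Set.range (PrimeSpectrum.comap (Ideal.Quotient.mk N)) := by
      rw [range_comap_of_surjective _ _ Ideal.Quotient.mk_surjective, Ideal.mk_ker]
      exact nilradical_le_prime p.asIdeal
    obtain ⟨w₁, hw₁⟩ := h2 p₁ hp
    exact ⟨PrimeSpectrum.comap π w₁, hle w₁,
      by rw [hcomm, show PrimeSpectrum.comap μ w₁ = p₁ from PrimeSpectrum.ext hw₁]⟩

theorem exists_avoid_affine {X S : Scheme.{u}} (f : X ⟶ S) [IsAffine X] [IsAffine S] [LocallyOfFiniteType f]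
    [IrreducibleSpace S] (x : X) (hx : f x = genericPoint S) (Z : Set X) (hZ : IsClosed Z) (hxZ : x ∉ Z) :
    ∃ U : Set S, IsOpen U ∧ U.Nonempty ∧
      (∀ w : X, x ⤳ w → f w ∈ U → ∃ z : X, x ⤳ z ∧ z ⤳ w ∧ f z = f w ∧ z ∉ Z) ∧
      ∀ s ∈ U, ∃ w : X, x ⤳ w ∧ f w = s := by
  letI := f.appTop.hom.toAlgebra
  have : Algebra.FiniteType Γ(S, ⊤) Γ(X, ⊤) :=
    HasRingHomProperty.appTop @LocallyOfFiniteType f inferInstance
  haveI : IrreducibleSpace (PrimeSpectrum Γ(S, ⊤)) := by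
    show IrreducibleSpace (Spec Γ(S, ⊤))
    rw [irreducibleSpace_def, Set.top_eq_univ, ← S.isoSpec.hom.surjective.range_eq, ← Set.image_univ]
    exact (IrreducibleSpace.isIrreducible_univ _).image _ S.isoSpec.hom.continuous.continuousOn
  let a : X → PrimeSpectrum Γ(X, ⊤) := fun y => X.isoSpec.hom y
  have ha : ∀ y z : X, (a y).asIdeal ≤ (a z).asIdeal ↔ y ⤳ z := fun y z =>
    (PrimeSpectrum.le_iff_specializes _ _).trans X.isoSpec.hom.isOpenEmbedding.isInducing.specializes_iff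
  have hasurj : ∀ q, ∃ y, a y = q := X.isoSpec.hom.surjective
  let c : S → PrimeSpectrum Γ(S, ⊤) := fun s => S.isoSpec.hom s
  have hnat : ∀ y, c (f y) = PrimeSpectrum.comap (algebraMap Γ(S, ⊤) Γ(X, ⊤)) (a y) := fun y => by
    show S.isoSpec.hom (f y) = _
    rw [← Scheme.Hom.comp_apply, ← Scheme.isoSpec_hom_naturality, Scheme.Hom.comp_apply]
    rfl
  have hN : (nilradical Γ(S, ⊤)).IsPrime := PrimeSpectrum.irreducibleSpace_iff_isPrime_nilradical.mp ‹_›
  have hgen : c (genericPoint S) = ⟨nilradical Γ(S, ⊤), hN⟩ := by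
    have hgen : IsGenericPoint (S.isoSpec.hom (genericPoint S)) (⊤ : Set (Spec Γ(S, ⊤))) := by
      simpa [S.isoSpec.hom.surjective.range_eq] using (genericPoint_spec S).image S.isoSpec.hom.continuous
    have h2 : IsGenericPoint (⟨nilradical Γ(S, ⊤), hN⟩ : PrimeSpectrum Γ(S, ⊤)) (⊤ : Set (PrimeSpectrum Γ(S, ⊤))) := by
      rw [IsGenericPoint, ← PrimeSpectrum.zeroLocus_vanishingIdeal_eq_closure]
      simp
    exact hgen.eq h2
  obtain ⟨U, hU, ⟨p, hp⟩, h1, h2⟩ := exists_avoid_ring Γ(S, ⊤) Γ(X, ⊤) (a x)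
    (by
      have := congrArg PrimeSpectrum.asIdeal ((hnat x).symm.trans ((congrArg c hx).trans hgen))
      exact this)
    (X.isoSpec.inv ⁻¹' Z) (hZ.preimage X.isoSpec.inv.continuous)
    (fun h => hxZ (by simpa [a, Set.mem_preimage, ← Scheme.Hom.comp_apply] using h))
  obtain ⟨s₀, hs₀⟩ := S.isoSpec.hom.surjective p
  refine ⟨c ⁻¹' U, hU.preimage S.isoSpec.hom.continuous,
    ⟨s₀, by show c s₀ ∈ U; rw [show c s₀ = p from hs₀]; exact hp⟩,
    fun w hw hwU => ?_, fun s hs => ?_⟩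
  · obtain ⟨Q, hxQ, hQw, hQ, hQZ⟩ := h1 (a w) ((ha x w).mpr hw) (show _ ∈ U from hnat w ▸ hwU)
    obtain ⟨z, rfl⟩ := hasurj Q
    refine ⟨z, (ha x z).mp hxQ, (ha z w).mp hQw, S.isoSpec.hom.isOpenEmbedding.injective ?_, fun hz => hQZ ?_⟩
    · exact (hnat z).trans (hQ.trans (hnat w).symm)
    · simpa [a, Set.mem_preimage, ← Scheme.Hom.comp_apply] using hz
  · obtain ⟨Q, hxQ, hQ⟩ := h2 (c s) hs
    obtain ⟨w, rfl⟩ := hasurj Q
    exact ⟨w, (ha x w).mp hxQ, S.isoSpec.hom.isOpenEmbedding.injective ((hnat w).trans hQ)⟩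

/-- **Key lemma**: in nearby fibres the specialisations of a point of the generic fibre have
generisations, within the fibre and below that point, outside a closed set avoiding it. -/
theorem exists_avoid {X Y : Scheme.{u}} (f : X ⟶ Y) [LocallyOfFiniteType f] [QuasiCompact f]
    [IrreducibleSpace Y] (x : X) (hx : f x = genericPoint Y) (Z : Set X) (hZ : IsClosed Z) (hxZ : x ∉ Z) :
    ∃ V : Y.Opens, (V : Set Y).Nonempty ∧
      (∀ w : X, x ⤳ w → f w ∈ V → ∃ z : X, x ⤳ z ∧ z ⤳ w ∧ f z = f w ∧ z ∉ Z) ∧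
      ∀ y ∈ V, ∃ z : X, x ⤳ z ∧ f z = y ∧ z ∉ Z := by
  obtain ⟨_, ⟨(V : Y.Opens), hV, rfl⟩, hη, -⟩ := Y.isBasis_affineOpens.exists_subset_of_mem_open
    (Set.mem_univ (genericPoint Y)) isOpen_univ
  obtain ⟨ι, _, W, hWa, hW, hcov⟩ := exists_finite_cover f hV
  haveI : IsAffine V := hV
  haveI : Nonempty V.toScheme := ⟨⟨_, hη⟩⟩
  haveI : IrreducibleSpace V.toScheme := V.ι.isOpenEmbedding.irreducibleSpace
  have hgen : V.ι (genericPoint V.toScheme) = genericPoint Y := by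
    refine ((genericPoint_spec V.toScheme).image V.ι.continuous).eq ?_
    rw [Set.image_univ, Scheme.Opens.range_ι]
    have hd : closure (V : Set Y) = Set.univ := dense_iff_closure_eq.mp (V.2.dense ⟨_, hη⟩)
    rw [hd]
    exact genericPoint_spec Y
  have hr : ∀ i w, V.ι (f.resLE V (W i) (hW i) w) = f ((W i).ι w) := fun i w => by
    rw [← Scheme.Hom.comp_apply, f.resLE_comp_ι, Scheme.Hom.comp_apply]
  let ι' := {i : ι // x ∈ W i}
  have h : ∀ i : ι', ∃ U : Set V.toScheme, IsOpen U ∧ U.Nonempty ∧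
      (∀ w : (W i.1).toScheme, (⟨x, i.2⟩ : (W i.1).toScheme) ⤳ w → f.resLE V (W i.1) (hW i.1) w ∈ U →
        ∃ z : (W i.1).toScheme, (⟨x, i.2⟩ : (W i.1).toScheme) ⤳ z ∧ z ⤳ w ∧
          f.resLE V (W i.1) (hW i.1) z = f.resLE V (W i.1) (hW i.1) w ∧ z ∉ (W i.1).ι ⁻¹' Z) ∧
      ∀ s ∈ U, ∃ w : (W i.1).toScheme, (⟨x, i.2⟩ : (W i.1).toScheme) ⤳ w ∧ f.resLE V (W i.1) (hW i.1) w = s :=
    fun i => by
      haveI : IsAffine (W i.1) := hWa i.1
      refine exists_avoid_affine _ _ (V.ι.isOpenEmbedding.injective ?_) _ (hZ.preimage (W i.1).ι.continuous) hxZ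
      rw [hr, hgen]
      exact hx
  choose U hU hne h1 h2 using h
  let U₀ : Set V.toScheme := ⋂ i, U i
  have hU₀ : IsOpen U₀ := isOpen_iInter_of_finite hU
  have hmem : genericPoint V.toScheme ∈ U₀ := Set.mem_iInter.mpr fun i =>
    ((genericPoint_spec _).mem_open_set_iff (hU i)).mpr (by simpa using hne i)
  have key : ∀ w : X, x ⤳ w → f w ∈ V.ι '' U₀ → ∃ z : X, x ⤳ z ∧ z ⤳ w ∧ f z = f w ∧ z ∉ Z := by
    rintro w hw ⟨s, hs, hsw⟩
    have hwV : w ∈ f ⁻¹ᵁ V := by
      show f w ∈ V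
      rw [← hsw]
      exact s.2
    obtain ⟨i, hwi⟩ := Opens.mem_iSup.mp (hcov hwV)
    have hxi : x ∈ W i := hw.mem_open (W i).2 hwi
    have hrs : f.resLE V (W i) (hW i) ⟨w, hwi⟩ = s := V.ι.isOpenEmbedding.injective ((hr i _).trans hsw.symm)
    obtain ⟨z, hxz, hzw, hz, hzZ⟩ := h1 ⟨i, hxi⟩ ⟨w, hwi⟩
      ((W i).ι.isOpenEmbedding.isInducing.specializes_iff.mp hw) (hrs ▸ Set.mem_iInter.mp hs ⟨i, hxi⟩)
    refine ⟨(W i).ι z, hxz.map (W i).ι.continuous, hzw.map (W i).ι.continuous, ?_, hzZ⟩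
    rw [← hr, hz, hr]
    rfl
  refine ⟨⟨V.ι '' U₀, V.ι.isOpenEmbedding.isOpenMap _ hU₀⟩, ⟨_, _, hmem, rfl⟩, key, ?_⟩
  rintro _ ⟨s, hs, rfl⟩
  have hxV : x ∈ f ⁻¹ᵁ V := by
    show f x ∈ V
    rw [hx]
    exact hη
  obtain ⟨i, hxi⟩ := Opens.mem_iSup.mp (hcov hxV)
  obtain ⟨w, hxw, hws⟩ := h2 ⟨i, hxi⟩ s (Set.mem_iInter.mp hs ⟨i, hxi⟩)
  have hfw : f ((W i).ι w) = V.ι s := by rw [← hr, hws]
  obtain ⟨z, hxz, -, hz, hzZ⟩ := key ((W i).ι w) (hxw.map (W i).ι.continuous) (hfw ▸ ⟨s, hs, rfl⟩)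
  exact ⟨z, hxz, hz.trans hfw, hzZ⟩

/-- The trace of a closed set nowhere dense on the generic fibre is nowhere dense on nearby fibres. -/
theorem exists_nowhereDense {X Y : Scheme.{u}} (f : X ⟶ Y) [LocallyOfFiniteType f] [QuasiCompact f]
    [IrreducibleSpace Y] (Z : Set X) (hZ : IsClosed Z)
    (h : IsNowhereDense (f.fiberι (genericPoint Y) ⁻¹' Z)) :
    ∃ V : Y.Opens, (V : Set Y).Nonempty ∧ ∀ y ∈ V, IsNowhereDense (f.fiberι y ⁻¹' Z) := by
  let η := genericPoint Y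
  haveI : LocallyOfFiniteType (f.fiberToSpecResidueField η) := MorphismProperty.pullback_snd f _ inferInstance
  haveI : IsLocallyNoetherian (f.fiber η) := LocallyOfFiniteType.isLocallyNoetherian (f.fiberToSpecResidueField η)
  haveI : QuasiCompact (f.fiberToSpecResidueField η) := MorphismProperty.pullback_snd f _ inferInstance
  haveI : CompactSpace (f.fiber η) := QuasiCompact.compactSpace_of_compactSpace (f.fiberToSpecResidueField η)
  haveI : IsNoetherian (f.fiber η) := {}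
  have hfin := NoetherianSpace.finite_irreducibleComponents (α := f.fiber η)
  haveI := hfin.to_subtype
  let x : irreducibleComponents (f.fiber η) → X := fun C => f.fiberι η C.2.1.genericPoint
  have hxη : ∀ C, f (x C) = η := fun C => (f.range_fiberι η).subset ⟨_, rfl⟩
  have hxZ : ∀ C, x C ∉ Z := fun C hC => by
    obtain ⟨U, hU, hne, hUC⟩ := NoetherianSpace.exists_isOpen_nonempty_subset_irreducibleComponent _ C.2
    have hsub : U ⊆ interior (closure (f.fiberι η ⁻¹' Z)) := by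
      refine interior_maximal (hUC.trans ?_) hU
      rw [← (C.2.1.isGenericPoint_genericPoint_closure).def.trans
        (isClosed_of_mem_irreducibleComponents _ C.2).closure_eq]
      exact closure_mono (Set.singleton_subset_iff.mpr hC)
    rw [h] at hsub
    exact hne.ne_empty (Set.subset_eq_empty hsub rfl)
  choose V hV h1 _h2 using fun C => exists_avoid f (x C) (hxη C) Z hZ (hxZ C)
  obtain ⟨V₀, hV₀, hmem⟩ := exists_mem_closure_generic f
  obtain ⟨W, hW, hle⟩ := exists_open_inter (ι := Option (irreducibleComponents (f.fiber η)))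
    (fun o => o.elim V₀ V) (by rintro (_ | C); exacts [hV₀, hV C])
  refine ⟨W, hW, fun y hy => ?_⟩
  rw [(hZ.preimage (f.fiberι y).continuous).isNowhereDense_iff, Set.eq_empty_iff_forall_notMem]
  intro w hw
  have hfw : f (f.fiberι y w) = y := (f.range_fiberι y).subset ⟨w, rfl⟩
  have hwcl : f.fiberι y w ∈ closure (⋃ C, {x C}) := by
    refine closure_minimal ?_ isClosed_closure (hmem _ (by rw [hfw]; exact hle none hy))
    intro a ha
    obtain ⟨a, rfl⟩ := (f.range_fiberι η).symm.subset ha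
    obtain ⟨C, hC, haC⟩ := exists_mem_irreducibleComponents_subset_of_isIrreducible _ (isIrreducible_singleton (x := a))
    have : C = closure {hC.1.genericPoint} := by
      rw [(hC.1.isGenericPoint_genericPoint_closure).def, (isClosed_of_mem_irreducibleComponents _ hC).closure_eq]
    exact closure_mono (Set.subset_iUnion (fun C => ({x C} : Set X)) ⟨C, hC⟩)
      (map_mem_closure (f.fiberι η).continuous (this.subset (haC rfl))
        (fun b hb => by rw [Set.mem_singleton_iff.mp hb]; exact Set.mem_singleton _) :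
          f.fiberι η a ∈ closure {x ⟨C, hC⟩})
  rw [closure_iUnion_of_finite] at hwcl
  obtain ⟨C, hC⟩ := Set.mem_iUnion.mp hwcl
  obtain ⟨z, -, hzw, hz, hzZ⟩ := h1 C _ (specializes_iff_mem_closure.mpr hC) (by rw [hfw]; exact hle (some C) hy)
  obtain ⟨z', rfl⟩ := (f.range_fiberι y).symm.subset (show z ∈ f ⁻¹' {y} from hz.trans hfw)
  have hspec : z' ⤳ w := (f.fiberι y).isEmbedding.isInducing.specializes_iff.mp hzw
  exact hzZ (show z' ∈ f.fiberι y ⁻¹' Z from interior_subset (hspec.mem_open isOpen_interior hw))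

/-- Nearby fibres have at least as many irreducible components as the generic fibre. -/
theorem exists_injective_irreducibleComponents {X Y : Scheme.{u}} (f : X ⟶ Y) [LocallyOfFiniteType f]
    [QuasiCompact f] [IrreducibleSpace Y] [Finite (irreducibleComponents (f.fiber (genericPoint Y)))] :
    ∃ V : Y.Opens, (V : Set Y).Nonempty ∧ ∀ y ∈ V,
      ∃ φ : irreducibleComponents (f.fiber (genericPoint Y)) → irreducibleComponents (f.fiber y),
        Function.Injective φ := by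
  let η := genericPoint Y
  let T : irreducibleComponents (f.fiber η) → Set X := fun C => closure (f.fiberι η '' C.1)
  let x : irreducibleComponents (f.fiber η) → X := fun C => f.fiberι η C.2.1.genericPoint
  have hxη : ∀ C, f (x C) = η := fun C => (f.range_fiberι η).subset ⟨_, rfl⟩
  have hgenC : ∀ C : irreducibleComponents (f.fiber η), closure {C.2.1.genericPoint} = C.1 := fun C =>
    (C.2.1.isGenericPoint_genericPoint_closure).def.trans (isClosed_of_mem_irreducibleComponents _ C.2).closure_eq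
  let Zc : irreducibleComponents (f.fiber η) → Set X :=
    fun C => ⋃ D : {D : irreducibleComponents (f.fiber η) // D ≠ C}, T D.1
  have hxZ : ∀ C, x C ∉ Zc C := fun C hC => by
    obtain ⟨⟨D, hD⟩, hxD⟩ := Set.mem_iUnion.mp hC
    obtain ⟨b, hb, hbe⟩ := (closure_inter_generic f (isClosed_of_mem_irreducibleComponents _ D.2)).subset ⟨hxD, hxη C⟩
    rw [(f.fiberι η).isEmbedding.injective hbe] at hb
    have hsub : C.1 ⊆ D.1 := (hgenC C).symm.subset.trans
      (closure_minimal (Set.singleton_subset_iff.mpr hb) (isClosed_of_mem_irreducibleComponents _ D.2))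
    exact hD (Subtype.ext (subset_antisymm (C.2.2 D.2.1 hsub) hsub))
  choose V hV _h1 h2 using fun C => exists_avoid f (x C) (hxη C) (Zc C)
    (isClosed_iUnion_of_finite fun D => isClosed_closure) (hxZ C)
  obtain ⟨V₁, hV₁, hcov⟩ := exists_closures_cover f (fun C : irreducibleComponents (f.fiber η) => C.1)
    (Set.sUnion_eq_iUnion.symm.trans sUnion_irreducibleComponents)
  obtain ⟨W, hW, hle⟩ := exists_open_inter (ι := Option (irreducibleComponents (f.fiber η)))
    (fun o => o.elim V₁ V) (by rintro (_ | C); exacts [hV₁, hV C])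
  refine ⟨W, hW, fun y hy => ?_⟩
  have h : ∀ C, ∃ (K : irreducibleComponents (f.fiber y)) (z : f.fiber y),
      z ∈ K.1 ∧ f.fiberι y z ∈ T C ∧ f.fiberι y z ∉ Zc C := fun C => by
    obtain ⟨z, hxz, hz, hzZ⟩ := h2 C y (hle (some C) hy)
    obtain ⟨z', rfl⟩ := (f.range_fiberι y).symm.subset (show z ∈ f ⁻¹' {y} from hz)
    obtain ⟨K, hK, hzK⟩ := exists_mem_irreducibleComponents_subset_of_isIrreducible _ (isIrreducible_singleton (x := z'))
    exact ⟨⟨K, hK⟩, z', hzK rfl,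
      closure_mono (Set.singleton_subset_iff.mpr (show x C ∈ f.fiberι η '' C.1 from
        ⟨C.2.1.genericPoint, (hgenC C).subset (subset_closure rfl), rfl⟩)) hxz.mem_closure, hzZ⟩
  choose K z hzK hzT hzZ using h
  refine ⟨K, fun C D hCD => not_not.mp fun hne => ?_⟩
  obtain ⟨t, ht⟩ : ∃ t, K C = t := ⟨_, rfl⟩
  let k := t.2.1.genericPoint
  have hk : closure {k} = t.1 := (t.2.1.isGenericPoint_genericPoint_closure).def.trans
    (isClosed_of_mem_irreducibleComponents _ t.2).closure_eq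
  obtain ⟨E, hE⟩ := hcov (f.fiberι y k) (by
    rw [show f (f.fiberι y k) = y from (f.range_fiberι y).subset ⟨k, rfl⟩]; exact hle none hy)
  have hin : ∀ C', K C' = t → E = C' := fun C' hC' => not_not.mp fun hEC => hzZ C' <| by
    refine Set.mem_iUnion.mpr ⟨⟨E, hEC⟩, ?_⟩
    exact (isClosed_closure.preimage (f.fiberι y).continuous).closure_subset_iff.mpr
      (Set.singleton_subset_iff.mpr hE) (hk.symm.subset (hC' ▸ hzK C'))
  exact hne ((hin C ht).symm.trans (hin D (hCD.symm.trans ht)))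

end GrothLib.FibreDim6
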