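import Groth.Agent.Lib.FibreDim6.Ring
import Groth.Agent.Lib.Dim.Scheme
import Groth.Agent.Lib.NoethTop.Constructible
import Groth.Agent.Lib.FibreBC.Basic
import Groth.Agent.Lib.Approx6.Scheme

/-!
# Dimension of the fibres of morphisms of affine schemes
-/

universe u

open CategoryTheory Limits AlgebraicGeometry TopologicalSpace

set_option linter.style.haveILetI false

noncomputable section

namespace GrothLib.FibreDim6

theorem dim_fiber_Spec (A B : Type u) [CommRing A] [CommRing B] [Algebra A B]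
    (p : PrimeSpectrum A) :
    topologicalKrullDim ↥((Spec.map (CommRingCat.ofHom (algebraMap A B))).fiber p) =
      ringKrullDim (p.asIdeal.Fiber B) := by
  rw [← PrimeSpectrum.topologicalKrullDim_eq_ringKrullDim]
  exact (IsHomeomorph.topologicalKrullDim_eq _
    ((Spec.map (CommRingCat.ofHom (algebraMap A B))).fiberHomeo p).isHomeomorph).trans
      (IsHomeomorph.topologicalKrullDim_eq _ (PrimeSpectrum.preimageHomeomorphFiber A B p).isHomeomorph)

theorem dim_fiber_affine {X S : Scheme.{u}} (f : X ⟶ S) [IsAffine X] [IsAffine S] [LocallyOfFiniteType f]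
    (s : S) :
    letI := f.appTop.hom.toAlgebra
    topologicalKrullDim ↥(f.fiber s) =
      ringKrullDim ((show PrimeSpectrum Γ(S, ⊤) from S.isoSpec.hom s).asIdeal.Fiber Γ(X, ⊤)) := by
  letI := f.appTop.hom.toAlgebra
  have hc : IsPullback X.isoSpec.hom f (Spec.map f.appTop) S.isoSpec.hom :=
    IsPullback.of_horiz_isIso ⟨Scheme.isoSpec_hom_naturality f⟩
  haveI : LocallyOfFiniteType (Spec.map f.appTop) :=
    (HasRingHomProperty.Spec_iff (P := @LocallyOfFiniteType)).mpr
      (HasRingHomProperty.appTop @LocallyOfFiniteType f inferInstance)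
  exact (GrothLib.FibreBC.topologicalKrullDim_fiber hc s).trans (dim_fiber_Spec _ _ _)

/-- Fibres over a closed subscheme of the base. -/
theorem dim_fiber_quotient (A B : Type u) [CommRing A] [CommRing B] [Algebra A B] (I : Ideal A)
    (q : PrimeSpectrum (A ⧸ I)) :
    ringKrullDim ((PrimeSpectrum.comap (Ideal.Quotient.mk I) q).asIdeal.Fiber B) =
      ringKrullDim (q.asIdeal.Fiber (B ⧸ I.map (algebraMap A B))) := by
  let B' := B ⧸ I.map (algebraMap A B)
  rw [← PrimeSpectrum.topologicalKrullDim_eq_ringKrullDim,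
    ← PrimeSpectrum.topologicalKrullDim_eq_ringKrullDim,
    ← IsHomeomorph.topologicalKrullDim_eq _ (PrimeSpectrum.preimageHomeomorphFiber A B _).isHomeomorph,
    ← IsHomeomorph.topologicalKrullDim_eq _ (PrimeSpectrum.preimageHomeomorphFiber (A ⧸ I) B' q).isHomeomorph]
  let emb : (PrimeSpectrum.comap (algebraMap (A ⧸ I) B') ⁻¹' {q} : Set (PrimeSpectrum B')) → PrimeSpectrum B :=
    fun x => PrimeSpectrum.comap (Ideal.Quotient.mk (I.map (algebraMap A B))) x.1
  have hemb : Topology.IsEmbedding emb :=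
    (PrimeSpectrum.isClosedEmbedding_comap_of_surjective _ _ Ideal.Quotient.mk_surjective).isEmbedding.comp
      Topology.IsEmbedding.subtypeVal
  refine (GrothLib.Dim.IsEmbedding.topologicalKrullDim_eq hemb ?_).symm
  have hcomm : ∀ x : PrimeSpectrum B', PrimeSpectrum.comap (algebraMap A B)
      (PrimeSpectrum.comap (Ideal.Quotient.mk (I.map (algebraMap A B))) x) =
        PrimeSpectrum.comap (Ideal.Quotient.mk I) (PrimeSpectrum.comap (algebraMap (A ⧸ I) B') x) :=
    fun x => rfl
  ext y
  constructor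
  · rintro ⟨⟨x, hx⟩, rfl⟩
    rw [Set.mem_preimage, hcomm, hx]
    rfl
  · intro hy
    obtain ⟨x, hx⟩ : y ∈ Set.range (PrimeSpectrum.comap (Ideal.Quotient.mk (I.map (algebraMap A B)))) := by
      rw [range_comap_of_surjective _ _ Ideal.Quotient.mk_surjective, Ideal.mk_ker]
      refine Ideal.map_le_iff_le_comap.mpr fun a ha => ?_
      show a ∈ (PrimeSpectrum.comap (algebraMap A B) y).asIdeal
      rw [show PrimeSpectrum.comap (algebraMap A B) y = _ from hy]
      show Ideal.Quotient.mk I a ∈ q.asIdeal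
      rw [Ideal.Quotient.eq_zero_iff_mem.mpr ha]
      exact q.asIdeal.zero_mem
    refine ⟨⟨x, (PrimeSpectrum.comap_injective_of_surjective _ Ideal.Quotient.mk_surjective) ?_⟩, hx⟩
    rw [← hcomm, hx]
    exact hy

/-- The fibre dimension of a finite type algebra over a ring with irreducible spectrum. -/
theorem exists_fiber_dim_eq_irreducible (A B : Type u) [CommRing A] [CommRing B] [Algebra A B]
    [Algebra.FiniteType A B] [IrreducibleSpace (PrimeSpectrum A)] :
    ∃ (U : Set (PrimeSpectrum A)) (d : WithBot ℕ∞), IsOpen U ∧ U.Nonempty ∧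
      ∀ p ∈ U, ringKrullDim (p.asIdeal.Fiber B) = d := by
  let N := nilradical A
  have hN : N.IsPrime := PrimeSpectrum.irreducibleSpace_iff_isPrime_nilradical.mp ‹_›
  let B' := B ⧸ N.map (algebraMap A B)
  haveI : Algebra.FiniteType (A ⧸ N) B' := .of_restrictScalars_finiteType A (A ⧸ N) B'
  obtain ⟨g, d, hg, hd⟩ := exists_fiber_dim_eq (A ⧸ N) B'
  obtain ⟨g, rfl⟩ := Ideal.Quotient.mk_surjective g
  refine ⟨PrimeSpectrum.basicOpen g, d, PrimeSpectrum.isOpen_basicOpen,
    ⟨⟨N, hN⟩, fun h => hg (Ideal.Quotient.eq_zero_iff_mem.mpr h)⟩, fun p hp => ?_⟩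
  obtain ⟨q, rfl⟩ : p ∈ Set.range (PrimeSpectrum.comap (Ideal.Quotient.mk N)) := by
    rw [range_comap_of_surjective _ _ Ideal.Quotient.mk_surjective, Ideal.mk_ker]
    exact nilradical_le_prime p.asIdeal
  rw [dim_fiber_quotient]
  exact hd q.asIdeal hp

theorem constructible_fiber_dim_noetherian (A B : Type u) [CommRing A] [IsNoetherianRing A] [CommRing B]
    [Algebra A B] [Algebra.FiniteType A B] :
    (∀ t, Topology.IsConstructible ((fun p : PrimeSpectrum A => ringKrullDim (p.asIdeal.Fiber B)) ⁻¹' {t})) ∧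
      (Set.range fun p : PrimeSpectrum A => ringKrullDim (p.asIdeal.Fiber B)).Finite := by
  refine GrothLib.NoethTop.constructible_function_of_forall fun Y hY hi => ?_
  have hI := hi
  obtain ⟨I, rfl⟩ := (PrimeSpectrum.isClosed_iff_zeroLocus_ideal Y).mp hY
  let π := Ideal.Quotient.mk I
  let B' := B ⧸ I.map (algebraMap A B)
  haveI : Algebra.FiniteType (A ⧸ I) B' := .of_restrictScalars_finiteType A (A ⧸ I) B'
  have hπ := PrimeSpectrum.isClosedEmbedding_comap_of_surjective _ π Ideal.Quotient.mk_surjective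
  have hrange : Set.range (PrimeSpectrum.comap π) = PrimeSpectrum.zeroLocus (I : Set A) := by
    rw [range_comap_of_surjective _ _ Ideal.Quotient.mk_surjective, Ideal.mk_ker]
  haveI : IrreducibleSpace (PrimeSpectrum (A ⧸ I)) := by
    have e := hπ.isEmbedding.toHomeomorph
    rw [irreducibleSpace_def, Set.top_eq_univ]
    have h' : IrreducibleSpace (Set.range (PrimeSpectrum.comap π)) :=
      Subtype.irreducibleSpace (hrange ▸ hI)
    rw [← Set.range_eq_univ.mpr e.symm.surjective, ← Set.image_univ]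
    exact (IrreducibleSpace.isIrreducible_univ _).image _ e.symm.continuous.continuousOn
  obtain ⟨U, d, hU, hne, hd⟩ := exists_fiber_dim_eq_irreducible (A ⧸ I) B'
  obtain ⟨V, hV, hVU⟩ := hπ.isInducing.isOpen_iff.mp hU
  have hmem : ∀ a ∈ V ∩ PrimeSpectrum.zeroLocus (I : Set A), ringKrullDim (a.asIdeal.Fiber B) = d := by
    rintro a ⟨haV, haI⟩
    obtain ⟨q, rfl⟩ := hrange.symm.subset haI
    rw [dim_fiber_quotient]
    exact hd q (hVU ▸ haV)
  obtain ⟨q, hq⟩ := hne
  exact ⟨V, hV, ⟨_, show PrimeSpectrum.comap π q ∈ V from hVU.symm.subset hq, hrange.subset ⟨q, rfl⟩⟩,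
    fun a ha b hb => (hmem a ha).trans (hmem b hb).symm⟩

end GrothLib.FibreDim6
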