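import Groth.Agent.Lib.FibreDim6.Equidim
import Mathlib.RingTheory.MvPolynomial.Localization

/-!
# Minimal points of nearby fibres avoid a closed set not containing the generic point
-/

universe u

open TensorProduct MvPolynomial

attribute [local instance] MvPolynomial.algebraMvPolynomial

set_option linter.style.haveILetI false

noncomputable section

namespace GrothLib.FibreDim6

/-- A finite type domain over a domain becomes finite over a polynomial ring after inverting an element. -/
theorem exists_finite_localization (A S : Type u) [CommRing A] [IsDomain A] [CommRing S] [IsDomain S]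
    [Algebra A S] [Algebra.FiniteType A S] (hinj : Function.Injective (algebraMap A S)) :
    ∃ (G : A), G ≠ 0 ∧ ∀ (R S₁ : Type u) [CommRing R] [CommRing S₁] [Algebra A R] [IsLocalization.Away G R]
      [Algebra S S₁] [IsLocalization.Away (algebraMap A S G) S₁] [Algebra R S₁] [Algebra A S₁]
      [IsScalarTower A R S₁] [IsScalarTower A S S₁],
      ∃ (n : ℕ) (φ : MvPolynomial (Fin n) R →ₐ[R] S₁), Function.Injective φ ∧ φ.toRingHom.Finite := by
  classical
  haveI : Nontrivial (FractionRing A ⊗[A] S) := by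
    refine not_subsingleton_iff_nontrivial.mp fun h => ?_
    haveI : IsLocalizedModule (nonZeroDivisors A) (TensorProduct.mk A (FractionRing A) S 1) := inferInstance
    obtain ⟨⟨c, hc⟩, hc'⟩ := (IsLocalizedModule.eq_zero_iff (nonZeroDivisors A)
      (TensorProduct.mk A (FractionRing A) S 1)).mp (h.elim _ 0 : (TensorProduct.mk A (FractionRing A) S 1) 1 = 0)
    refine nonZeroDivisors.ne_zero hc (hinj ?_)
    rw [map_zero, Algebra.algebraMap_eq_smul_one]
    exact hc'
  obtain ⟨n, φ, hφ, hrel⟩ := exists_noether_relations A S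
  choose q a ha hlc hq0 using hrel
  obtain ⟨s, hs⟩ := Algebra.FiniteType.out (R := A) (A := S)
  refine ⟨∏ β ∈ s, a β, Finset.prod_ne_zero_iff.mpr fun β _ => ha β, fun R S₁ _ _ _ _ _ _ _ _ _ _ => ⟨n, ?_⟩⟩
  let G := ∏ β ∈ s, a β
  have hG : G ≠ 0 := Finset.prod_ne_zero_iff.mpr fun β _ => ha β
  let χ := algebraMap S S₁
  let κ : MvPolynomial (Fin n) A →+* MvPolynomial (Fin n) R := MvPolynomial.map (algebraMap A R)
  let φ₁ : MvPolynomial (Fin n) R →ₐ[R] S₁ := aeval fun i => χ (φ (X i))
  have hc : φ₁.toRingHom.comp κ = χ.comp φ.toRingHom := by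
    refine MvPolynomial.ringHom_ext (fun x => ?_) fun i => ?_
    · show φ₁ (κ (C x)) = χ (φ (C x))
      rw [show κ (C x) = C (algebraMap A R x) from map_C _ _, show φ (C x) = algebraMap A S x from φ.commutes x,
        show φ₁ (C (algebraMap A R x)) = algebraMap R S₁ (algebraMap A R x) from φ₁.commutes _,
        ← IsScalarTower.algebraMap_apply, ← IsScalarTower.algebraMap_apply]
    · simp [κ, φ₁]
  refine ⟨φ₁, ?_, ?_⟩
  · refine (injective_iff_map_eq_zero φ₁).mpr fun f hf => ?_
    obtain ⟨⟨h, ⟨d, hd⟩⟩, hfh⟩ := IsLocalization.surj ((Submonoid.powers G).map (C (σ := Fin n))) f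
    obtain ⟨_, ⟨k, rfl⟩, rfl⟩ := hd
    have h0 : χ (φ h) = 0 := by
      rw [show χ (φ h) = φ₁ (κ h) from congr($hc.symm h), show κ h = _ from hfh.symm, map_mul, hf, zero_mul]
    obtain ⟨⟨_, m, rfl⟩, hm⟩ := (IsLocalization.map_eq_zero_iff (Submonoid.powers (algebraMap A S G)) S₁ _).mp h0
    have hh : h = 0 := hφ <| ((mul_eq_zero.mp hm).resolve_left
      (pow_ne_zero m fun h => hG (hinj (h.trans (map_zero _).symm)))).trans (map_zero φ).symm
    rw [hh, map_zero] at hfh
    exact (IsLocalization.map_units (MvPolynomial (Fin n) R)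
      (⟨_, ⟨G ^ k, ⟨k, rfl⟩, rfl⟩⟩ : (Submonoid.powers G).map (C (σ := Fin n)))).mul_left_eq_zero.mp hfh
  · haveI : Algebra.FiniteType A S₁ := Algebra.FiniteType.trans ‹Algebra.FiniteType A S›
      (IsLocalization.finiteType_of_monoid_fg (Submonoid.powers (algebraMap A S G)) S₁)
    haveI : Algebra.FiniteType R S₁ := .of_restrictScalars_finiteType A R S₁
    refine RingHom.IsIntegral.to_finite (fun x => ?_) (RingHom.FiniteType.of_comp_finiteType (f := algebraMap R _) ?_)
    · obtain ⟨⟨b, ⟨_, k, rfl⟩⟩, hx⟩ := IsLocalization.surj (Submonoid.powers (algebraMap A S G)) x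
      have hb : φ₁.toRingHom.IsIntegralElem (χ b) := by
        refine isIntegralElem_of_gens χ φ₁.toRingHom s hs (fun x => ⟨κ (C x), ?_⟩) (fun β hβ => ?_) b
        · rw [← RingHom.comp_apply, hc, RingHom.comp_apply]
          exact congrArg χ (φ.commutes x)
        · refine isIntegralElem_of_relation φ.toRingHom χ κ φ₁.toRingHom hc (q β) β (hq0 β) ?_
          rw [hlc, show κ (C (a β)) = C (algebraMap A R (a β)) from map_C _ _]
          exact (isUnit_of_dvd_unit (map_dvd _ (Finset.dvd_prod_of_mem a hβ))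
            (IsLocalization.Away.algebraMap_isUnit G)).map C
      obtain ⟨v, hv⟩ := (IsLocalization.Away.algebraMap_isUnit (S := R) G)
      rw [show x = χ b * φ₁ (C (((v⁻¹ : Rˣ) : R) ^ k)) by
        rw [show φ₁ (C _) = algebraMap R S₁ _ from φ₁.commutes _,
          show χ b = _ from hx.symm]
        show x = x * algebraMap S S₁ (algebraMap A S G ^ k) * _
        rw [map_pow, ← IsScalarTower.algebraMap_apply A S S₁, IsScalarTower.algebraMap_apply A R S₁, ← hv,
          ← map_pow, mul_assoc, ← map_mul, ← mul_pow, Units.mul_inv, one_pow, map_one, mul_one]]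
      exact RingHom.IsIntegralElem.mul _ hb φ₁.toRingHom.isIntegralElem_map
    · rw [show φ₁.toRingHom.comp (algebraMap R _) = algebraMap R S₁ from φ₁.comp_algebraMap]
      exact RingHom.finiteType_algebraMap.mpr ‹_›

variable (A S : Type u) [CommRing A] [IsDomain A] [CommRing S] [IsDomain S] [Algebra A S] [Algebra.FiniteType A S]

/-- Over a nonempty basic open of the base, a nonzero element of a domain lies in no prime which is
minimal in its fibre, and the fibres are nonempty. -/
theorem exists_avoid_element (hinj : Function.Injective (algebraMap A S)) (b : S) (hb : b ≠ 0) :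
    ∃ g : A, g ≠ 0 ∧
      (∀ Q : PrimeSpectrum S, algebraMap A S g ∉ Q.asIdeal → IsMinimalOver A Q → b ∉ Q.asIdeal) ∧
      ∀ p : PrimeSpectrum A, g ∉ p.asIdeal → ∃ Q : PrimeSpectrum S, Q.asIdeal.comap (algebraMap A S) = p.asIdeal := by
  obtain ⟨G, hG, hloc⟩ := exists_finite_localization A S hinj
  let R := Localization.Away G
  let S₁ := Localization.Away (algebraMap A S G)
  let ρ : R →+* S₁ := IsLocalization.Away.map R S₁ (algebraMap A S) G
  letI : Algebra R S₁ := ρ.toAlgebra
  haveI : IsScalarTower A R S₁ := IsScalarTower.of_algebraMap_eq fun x => by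
    rw [IsScalarTower.algebraMap_apply A S S₁, RingHom.algebraMap_toAlgebra]
    exact (IsLocalization.map_eq _ x).symm
  obtain ⟨n, φ, hφ, hfin⟩ := hloc R S₁
  have hG' : algebraMap A S G ≠ 0 := fun h => hG (hinj (h.trans (map_zero _).symm))
  have hleA : Submonoid.powers G ≤ nonZeroDivisors A := powers_le_nonZeroDivisors_of_noZeroDivisors hG
  have hleS : Submonoid.powers (algebraMap A S G) ≤ nonZeroDivisors S :=
    powers_le_nonZeroDivisors_of_noZeroDivisors hG'
  haveI : IsDomain R := IsLocalization.isDomain_localization hleA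
  haveI : IsDomain S₁ := IsLocalization.isDomain_localization hleS
  obtain ⟨g₁, hg₁, h1, h2⟩ := exists_avoid_element_of_finite n φ hφ hfin (algebraMap S S₁ b)
    fun h => hb (IsLocalization.injective S₁ hleS (h.trans (map_zero _).symm))
  obtain ⟨⟨a, ⟨_, k, rfl⟩⟩, hga⟩ := IsLocalization.surj (Submonoid.powers G) g₁
  have ha : a ≠ 0 := fun h => by
    rw [h, map_zero] at hga
    exact hg₁ ((IsLocalization.map_units R (⟨G ^ k, k, rfl⟩ : Submonoid.powers G)).mul_left_eq_zero.mp hga)
  have key : ∀ x : A, algebraMap R S₁ (algebraMap A R x) = algebraMap S S₁ (algebraMap A S x) := fun x => by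
    rw [← IsScalarTower.algebraMap_apply, ← IsScalarTower.algebraMap_apply]
  refine ⟨G * a, mul_ne_zero hG ha, fun Q hgQ hQ hbQ => ?_, fun p hp => ?_⟩
  · have hd : Disjoint (Submonoid.powers (algebraMap A S G) : Set S) Q.asIdeal :=
      Set.disjoint_left.mpr fun x ⟨j, hj⟩ hx => hgQ (by
        rw [map_mul]
        exact Q.asIdeal.mul_mem_right _ (Q.2.mem_of_pow_mem j (by rw [show algebraMap A S G ^ j = x from hj]; exact hx)))
    let Q₁ : PrimeSpectrum S₁ := ⟨_, IsLocalization.isPrime_of_isPrime_disjoint _ S₁ _ Q.2 hd⟩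
    have hc : Q₁.asIdeal.comap (algebraMap S S₁) = Q.asIdeal :=
      IsLocalization.under_map_of_isPrime_disjoint _ S₁ Q.2 hd
    refine h1 Q₁ (fun hm => hgQ ?_) (fun Q' hle heq => ?_) (Ideal.mem_map_of_mem _ hbQ)
    · rw [map_mul]
      refine Q.asIdeal.mul_mem_left _ ?_
      rw [← hc, Ideal.mem_comap, ← key, ← hga, map_mul]
      exact Q₁.asIdeal.mul_mem_right _ hm
    · have hle' : Q.asIdeal ≤ Q'.asIdeal.comap (algebraMap S S₁) :=
        hQ ⟨_, Ideal.IsPrime.comap (algebraMap S S₁)⟩ ((Ideal.comap_mono hle).trans hc.le) (by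
          ext x
          have := Ideal.ext_iff.mp heq (algebraMap A R x)
          simp only [Ideal.mem_comap, key] at this
          rw [Ideal.mem_comap, Ideal.mem_comap, Ideal.mem_comap, this, ← Ideal.mem_comap (f := algebraMap S S₁), hc])
      exact Ideal.map_le_iff_le_comap.mpr hle'
  · have hd : Disjoint (Submonoid.powers G : Set A) p.asIdeal :=
      Set.disjoint_left.mpr fun x ⟨j, hj⟩ hx => hp
        (p.asIdeal.mul_mem_right _ (p.2.mem_of_pow_mem j (by rw [show G ^ j = x from hj]; exact hx)))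
    let p₁ : PrimeSpectrum R := ⟨_, IsLocalization.isPrime_of_isPrime_disjoint _ R _ p.2 hd⟩
    have hc : p₁.asIdeal.comap (algebraMap A R) = p.asIdeal :=
      IsLocalization.under_map_of_isPrime_disjoint _ R p.2 hd
    obtain ⟨Q₁, hQ₁⟩ := h2 p₁ fun hm => hp (p.asIdeal.mul_mem_left _ (by
      rw [← hc, Ideal.mem_comap, ← hga]
      exact p₁.asIdeal.mul_mem_right _ hm))
    refine ⟨PrimeSpectrum.comap (algebraMap S S₁) Q₁, ?_⟩
    show (Q₁.asIdeal.comap (algebraMap S S₁)).comap (algebraMap A S) = p.asIdeal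
    rw [← hc, ← hQ₁]
    ext x
    simp only [Ideal.mem_comap, key]

end GrothLib.FibreDim6
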