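import Groth.Agent.Lib.FibreDim6.Ring
import Groth.Agent.Lib.GenFree.Presentation
import Groth.Agent.Lib.TorsionFree.Basic
import Mathlib.RingTheory.Flat.Equalizer
import Mathlib.RingTheory.TensorProduct.MvPolynomial

/-!
# Minimal points of the fibres of a finite type domain near the generic point
-/

universe u

open TensorProduct MvPolynomial

set_option linter.style.haveILetI false

noncomputable section

namespace GrothLib.FibreDim6

/-- An injection with flat cokernel on a basic open stays injective on the fibres there. -/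
theorem lTensor_injective_of_flat_away {R : Type u} [CommRing R] {M N C : Type u} [AddCommGroup M]
    [AddCommGroup N] [AddCommGroup C] [Module R M] [Module R N] [Module R C] (e : M →ₗ[R] N)
    (π : N →ₗ[R] C) (he : Function.Injective e) (hπ : Function.Surjective π) (hex : Function.Exact e π)
    (g : R) [Module.Flat (Localization.Away g) (Localization.Away g ⊗[R] C)]
    (K : Type u) [CommRing K] [Algebra R K] (hu : IsUnit (algebraMap R K g)) :
    Function.Injective (e.lTensor K) := by
  let L := Localization.Away g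
  letI : Algebra L K := (IsLocalization.Away.lift g hu).toAlgebra
  haveI : IsScalarTower R L K := IsScalarTower.of_algebraMap_eq fun x =>
    (IsLocalization.Away.lift_eq g hu x).symm
  have h1 : Function.Injective (e.baseChange L) := Module.Flat.lTensor_preserves_injective_linearMap (M := L) e he
  have h2 : Function.Exact (e.baseChange L) (π.baseChange L) := lTensor_exact L hex hπ
  have h3 : Function.Surjective (π.baseChange L) := LinearMap.lTensor_surjective L hπ
  have h4 := LinearMap.lTensor_injective_of_exact_of_flat (π.baseChange L) h3 (e.baseChange L) h1 h2 K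
  have key : ∀ v, AlgebraTensorModule.cancelBaseChange R L L K N ((e.baseChange L).lTensor K v) =
      e.lTensor K (AlgebraTensorModule.cancelBaseChange R L L K M v) := by
    intro v
    induction v using TensorProduct.induction_on with
    | zero => simp
    | add x y hx hy => simp [hx, hy]
    | tmul k w =>
      induction w using TensorProduct.induction_on with
      | zero => simp
      | add x y hx hy => simp only [tmul_add, map_add, hx, hy]
      | tmul l m => simp
  intro x y hxy
  obtain ⟨a, rfl⟩ := (AlgebraTensorModule.cancelBaseChange R L L K M).surjective x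
  obtain ⟨b, rfl⟩ := (AlgebraTensorModule.cancelBaseChange R L L K M).surjective y
  rw [← key, ← key] at hxy
  rw [h4 ((AlgebraTensorModule.cancelBaseChange R L L K N).injective hxy)]

variable {R S : Type u} [CommRing R] [CommRing S] [Algebra R S]

/-- A module embedded in a free one fibrewise has no fibrewise torsion. -/
theorem fiber_regular {n m : ℕ} [Algebra (MvPolynomial (Fin n) R) S] [IsScalarTower R (MvPolynomial (Fin n) R) S]
    (e : S →ₗ[MvPolynomial (Fin n) R] (Fin m → MvPolynomial (Fin n) R)) (K : Type u) [Field K] [Algebra R K]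
    (hinj : Function.Injective ((e.restrictScalars R).lTensor K)) (h : MvPolynomial (Fin n) R)
    (hh : MvPolynomial.map (algebraMap R K) h ≠ 0) (v : K ⊗[R] S)
    (hv : ((1 : K) ⊗ₜ[R] algebraMap (MvPolynomial (Fin n) R) S h) * v = 0) : v = 0 := by
  let P := piRight R R K (fun _ : Fin m => MvPolynomial (Fin n) R)
  let E : K ⊗[R] S →ₗ[R] Fin m → MvPolynomial (Fin n) K :=
    (LinearMap.pi fun i => ((algebraTensorAlgEquiv R K (σ := Fin n)).toLinearMap.restrictScalars R).comp
      (LinearMap.proj i)).comp (P.toLinearMap.comp ((e.restrictScalars R).lTensor K))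
  have hEinj : Function.Injective E := fun x y hxy => by
    refine hinj (P.injective (funext fun i => ?_))
    exact (algebraTensorAlgEquiv R K (σ := Fin n)).injective (congrFun hxy i)
  have hEt : ∀ (k : K) (x : S) i, E (k ⊗ₜ x) i = k • MvPolynomial.map (algebraMap R K) (e x i) := fun k x i => by
    simp [E, P]
  have hEmul : ∀ w i, E (((1 : K) ⊗ₜ[R] algebraMap (MvPolynomial (Fin n) R) S h) * w) i =
      MvPolynomial.map (algebraMap R K) h * E w i := by
    intro w i
    induction w using TensorProduct.induction_on with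
    | zero => simp
    | add x y hx hy => simp only [mul_add, map_add, Pi.add_apply, hx, hy]
    | tmul k x =>
      rw [Algebra.TensorProduct.tmul_mul_tmul, one_mul, hEt, hEt, ← Algebra.smul_def, map_smul,
        Pi.smul_apply, smul_eq_mul, map_mul, ← mul_smul_comm]
  refine hEinj (funext fun i => ?_)
  have := hEmul v i
  rw [hv, map_zero, Pi.zero_apply, eq_comm, mul_eq_zero] at this
  rw [this.resolve_left hh, map_zero, Pi.zero_apply]

/-- An element vanishing on the fibre over `p` lies in every prime over `p`. -/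
theorem mem_of_one_tmul_eq_zero (p : Ideal R) [p.IsPrime] (Q : Ideal S) [Q.IsPrime]
    (hQ : p = Q.comap (algebraMap R S)) (s : S) (h : ((1 : p.ResidueField) ⊗ₜ[R] s : p.Fiber S) = 0) : s ∈ Q := by
  let θ : p.Fiber S →ₐ[R] Q.ResidueField :=
    Algebra.TensorProduct.lift (Ideal.ResidueField.mapₐ p Q (Algebra.ofId _ _) hQ)
      (IsScalarTower.toAlgHom _ _ _) fun _ _ => .all _ _
  refine Ideal.algebraMap_residueField_eq_zero.mp ?_
  have := congrArg θ h
  simpa [θ] using this

/-- `Q` is minimal among the primes lying over the same prime of the base. -/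
def IsMinimalOver (R : Type u) [CommRing R] {S : Type u} [CommRing S] [Algebra R S] (Q : PrimeSpectrum S) : Prop :=
  ∀ Q' : PrimeSpectrum S, Q' ≤ Q →
    Q'.asIdeal.comap (algebraMap R S) = Q.asIdeal.comap (algebraMap R S) → Q ≤ Q'

/-- An element of a prime minimal over `p` is killed, on the fibre, by something outside the prime. -/
theorem exists_mul_eq_zero_of_isMinimalOver (Q : PrimeSpectrum S) (hQ : IsMinimalOver R Q)
    (p : Ideal R) [p.IsPrime] (hp : Q.asIdeal.comap (algebraMap R S) = p) (x : S) (hx : x ∈ Q.asIdeal) :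
    ∃ (s : S) (k : ℕ), s ∉ Q.asIdeal ∧ ((1 : p.ResidueField) ⊗ₜ[R] (x ^ k * s) : p.Fiber S) = 0 := by
  let L := Localization.AtPrime Q.asIdeal
  let J := p.map (algebraMap R S)
  have : algebraMap S L x ∈ (J.map (algebraMap S L)).radical := by
    rw [Ideal.radical_eq_sInf]
    refine Submodule.mem_sInf.mpr fun P hP => ?_
    obtain ⟨hJP, hP⟩ := hP
    have hcP : Ideal.comap (algebraMap S L) P ≤ Q.asIdeal := fun x hx => not_not.mp fun hxQ =>
      hP.ne_top (Ideal.eq_top_of_isUnit_mem _ hx
        (IsLocalization.map_units L (⟨x, hxQ⟩ : Q.asIdeal.primeCompl)))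
    refine hQ ⟨_, Ideal.IsPrime.comap (algebraMap S L)⟩ hcP (le_antisymm ?_ ?_) hx
    · exact Ideal.comap_mono hcP
    · rw [hp]
      exact Ideal.map_le_iff_le_comap.mp (Ideal.map_le_iff_le_comap.mp hJP)
  obtain ⟨k, hk⟩ := this
  rw [← map_pow] at hk
  obtain ⟨s, hs⟩ := (IsLocalization.algebraMap_mem_map_algebraMap_iff Q.asIdeal.primeCompl L J _).mp hk
  refine ⟨s, k, hs.1, ?_⟩
  have hJ : J ≤ RingHom.ker (Algebra.TensorProduct.includeRight (R := R) (A := p.ResidueField) (B := S)).toRingHom := by
    refine Ideal.map_le_iff_le_comap.mpr fun r hr => ?_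
    show Algebra.TensorProduct.includeRight (algebraMap R S r) = (0 : p.ResidueField ⊗[R] S)
    rw [AlgHom.commutes, IsScalarTower.algebraMap_apply R p.ResidueField,
      Ideal.algebraMap_residueField_eq_zero.mpr hr, map_zero]
  exact hJ (by rw [mul_comm]; exact hs.2)

/-- Over a nonempty basic open, primes minimal over the base avoid the polynomials which are nonzero
modulo the base. -/
theorem exists_avoid_of_finite [IsDomain R] [IsDomain S] (n : ℕ) (φ : MvPolynomial (Fin n) R →ₐ[R] S)
    (hφ : Function.Injective φ) (hfin : φ.toRingHom.Finite) :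
    ∃ g : R, g ≠ 0 ∧
      (∀ Q : PrimeSpectrum S, algebraMap R S g ∉ Q.asIdeal → IsMinimalOver R Q →
        ∀ h, φ h ∈ Q.asIdeal → ∀ i, algebraMap R S (h.coeff i) ∈ Q.asIdeal) ∧
      ∀ p : PrimeSpectrum R, g ∉ p.asIdeal → ∃ Q : PrimeSpectrum S, Q.asIdeal.comap (algebraMap R S) = p.asIdeal := by
  letI := φ.toRingHom.toAlgebra
  haveI : IsScalarTower R (MvPolynomial (Fin n) R) S :=
    IsScalarTower.of_algebraMap_eq fun x => (φ.commutes x).symm
  haveI : Module.Finite (MvPolynomial (Fin n) R) S := hfin
  haveI : Module.IsTorsionFree (MvPolynomial (Fin n) R) S := by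
    refine .of_smul_eq_zero fun a x h => ?_
    rw [Algebra.smul_def] at h
    exact (mul_eq_zero.mp h).imp (fun h => hφ (h.trans (map_zero φ).symm)) id
  obtain ⟨m, e, he⟩ := GrothLib.exists_injective_pi_of_isTorsionFree (MvPolynomial (Fin n) R) S
  obtain ⟨g, -, hg, hfree, -⟩ := GrothLib.GenFree.exists_free_and_finitePresentation (R := R)
    (MvPolynomial (Fin n) R) ((Fin m → MvPolynomial (Fin n) R) ⧸ LinearMap.range e) (1 : R) one_ne_zero
  refine ⟨g, hg, fun Q hgQ hQ h hh i => ?_, fun p hp => ?_⟩
  · let p := Q.asIdeal.comap (algebraMap R S)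
    have : p.IsPrime := Ideal.IsPrime.comap _
    have hu : IsUnit (algebraMap R p.ResidueField g) :=
      isUnit_iff_ne_zero.mpr fun h => hgQ (Ideal.algebraMap_residueField_eq_zero.mp h :)
    have hinj := lTensor_injective_of_flat_away (e.restrictScalars R)
      ((LinearMap.range e).mkQ.restrictScalars R) he (Submodule.mkQ_surjective _)
      (LinearMap.exact_map_mkQ_range e) g p.ResidueField hu
    by_contra hi
    have hκ : MvPolynomial.map (algebraMap R p.ResidueField) h ≠ 0 := fun h0 => hi <| by
      have := congrArg (MvPolynomial.coeff i) h0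
      rw [MvPolynomial.coeff_map, MvPolynomial.coeff_zero] at this
      exact (Ideal.algebraMap_residueField_eq_zero.mp this :)
    obtain ⟨s, k, hs, hsk⟩ := exists_mul_eq_zero_of_isMinimalOver Q hQ p rfl (φ h) hh
    refine hs (mem_of_one_tmul_eq_zero p Q.asIdeal rfl s (fiber_regular e p.ResidueField hinj (h ^ k)
      (by rw [map_pow]; exact pow_ne_zero k hκ) _ ?_))
    rw [Algebra.TensorProduct.tmul_mul_tmul, one_mul, map_pow]
    exact hsk
  · haveI : Algebra.IsIntegral (MvPolynomial (Fin n) R) S := ⟨hfin.to_isIntegral⟩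
    let P : Ideal (MvPolynomial (Fin n) R) :=
      RingHom.ker (MvPolynomial.map (σ := Fin n) (algebraMap R p.asIdeal.ResidueField))
    have : P.IsPrime := RingHom.ker_isPrime _
    obtain ⟨Q, -, hQ, hQP⟩ := Ideal.exists_ideal_over_prime_of_isIntegral (R := MvPolynomial (Fin n) R) (S := S)
      P ⊥ (by rw [← RingHom.ker_eq_comap_bot, show algebraMap (MvPolynomial (Fin n) R) S = φ.toRingHom from rfl,
        (RingHom.injective_iff_ker_eq_bot φ.toRingHom).1 hφ]; exact bot_le)
    refine ⟨⟨Q, hQ⟩, ?_⟩
    ext x
    rw [Ideal.mem_comap, ← φ.commutes x]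
    show φ (C x) ∈ Q ↔ _
    rw [show φ (C x) ∈ Q ↔ C x ∈ P from by rw [← hQP]; exact Iff.rfl]
    show MvPolynomial.map (algebraMap R p.asIdeal.ResidueField) (C x) = 0 ↔ _
    rw [map_C, ← map_zero C, C_inj, Ideal.algebraMap_residueField_eq_zero]

/-- Over a nonempty basic open, a nonzero element lies in no prime minimal over the base. -/
theorem exists_avoid_element_of_finite [IsDomain R] [IsDomain S] (n : ℕ) (φ : MvPolynomial (Fin n) R →ₐ[R] S)
    (hφ : Function.Injective φ) (hfin : φ.toRingHom.Finite) (b : S) (hb : b ≠ 0) :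
    ∃ g : R, g ≠ 0 ∧
      (∀ Q : PrimeSpectrum S, algebraMap R S g ∉ Q.asIdeal → IsMinimalOver R Q → b ∉ Q.asIdeal) ∧
      ∀ p : PrimeSpectrum R, g ∉ p.asIdeal → ∃ Q : PrimeSpectrum S, Q.asIdeal.comap (algebraMap R S) = p.asIdeal := by
  obtain ⟨g, hg, h1, h2⟩ := exists_avoid_of_finite n φ hφ hfin
  letI := φ.toRingHom.toAlgebra
  have hne : (Ideal.span {b}).comap (algebraMap (MvPolynomial (Fin n) R) S) ≠ ⊥ :=
    Ideal.comap_ne_bot_of_integral_mem hb (Ideal.mem_span_singleton_self b) (hfin.to_isIntegral b)
  obtain ⟨c, hc, hc0⟩ := Submodule.exists_mem_ne_zero_of_ne_bot hne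
  obtain ⟨i, hi⟩ := MvPolynomial.ne_zero_iff.mp hc0
  refine ⟨g * c.coeff i, mul_ne_zero hg hi, fun Q hgQ hQ hbQ => ?_, fun p hp => h2 p fun h => hp (p.asIdeal.mul_mem_right _ h)⟩
  refine hgQ ?_
  rw [map_mul]
  exact Q.asIdeal.mul_mem_left _ (h1 Q (fun h => hgQ (map_mul (algebraMap R S) g _ ▸ Q.asIdeal.mul_mem_right _ h))
    hQ c ((Ideal.span_singleton_le_iff_mem _).mpr hbQ hc) i)

end GrothLib.FibreDim6
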