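import Groth.Agent.Lib.FibreDim6.Scheme
import Groth.Agent.Lib.GenFree.Presentation

/-!
# Points of nearby fibres specialise from the generic fibre
-/

universe u

open CategoryTheory Limits AlgebraicGeometry TopologicalSpace
open scoped TensorProduct

set_option linter.style.haveILetI false

noncomputable section

namespace GrothLib.FibreDim6

/-- Generic freeness kills the torsion of a finite type algebra over a domain. -/
theorem exists_torsion_killed (A B : Type u) [CommRing A] [IsDomain A] [CommRing B] [Algebra A B]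
    [Algebra.FiniteType A B] :
    ∃ g : A, g ≠ 0 ∧ ∀ (a : A) (x : B), a ≠ 0 → a • x = 0 → ∃ m : ℕ, g ^ m • x = 0 := by
  obtain ⟨g, -, hg, -, hfree, -⟩ := GrothLib.GenFree.exists_free_and_finitePresentation B B (1 : A) one_ne_zero
  refine ⟨g, hg, fun a x ha hax => ?_⟩
  haveI : IsLocalizedModule (Submonoid.powers g) (TensorProduct.mk A (Localization.Away g) B 1) := inferInstance
  have hle : Submonoid.powers g ≤ nonZeroDivisors A := powers_le_nonZeroDivisors_of_noZeroDivisors hg
  haveI : IsDomain (Localization.Away g) := IsLocalization.isDomain_localization hle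
  have ha' : algebraMap A (Localization.Away g) a ≠ 0 := fun h =>
    ha (IsLocalization.injective (Localization.Away g) hle (h.trans (map_zero _).symm))
  have h0 : algebraMap A (Localization.Away g) a • (TensorProduct.mk A (Localization.Away g) B 1 x) = 0 := by
    rw [algebraMap_smul, ← map_smul, hax, map_zero]
  obtain ⟨⟨_, m, rfl⟩, hm⟩ := (IsLocalizedModule.eq_zero_iff (Submonoid.powers g)
    (TensorProduct.mk A (Localization.Away g) B 1)).mp ((smul_eq_zero.mp h0).resolve_left ha')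
  exact ⟨m, hm⟩

/-- Primes over a nonempty basic open of the base generalise to the generic fibre. -/
theorem exists_le_over_generic (A B : Type u) [CommRing A] [IsDomain A] [CommRing B] [Algebra A B]
    [Algebra.FiniteType A B] :
    ∃ g : A, g ≠ 0 ∧ ∀ q : PrimeSpectrum B, algebraMap A B g ∉ q.asIdeal →
      ∃ q' : PrimeSpectrum B, q'.asIdeal ≤ q.asIdeal ∧ q'.asIdeal.comap (algebraMap A B) = ⊥ := by
  obtain ⟨g, hg, ht⟩ := exists_torsion_killed A B
  refine ⟨g, hg, fun q hq => ?_⟩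
  obtain ⟨Q, hQ, hQq⟩ := Ideal.exists_minimalPrimes_le (I := (⊥ : Ideal B)) (J := q.asIdeal) bot_le
  have hQp : Q.IsPrime := hQ.1.1
  refine ⟨⟨Q, hQp⟩, hQq, (Submodule.eq_bot_iff _).mpr fun a ha => not_not.mp fun ha0 => ?_⟩
  have : IsNilpotent (algebraMap B (Localization.AtPrime Q) (algebraMap A B a)) := by
    rw [← mem_nilradical, nilradical_eq_sInf]
    refine Submodule.mem_sInf.mpr fun P hP' => ?_
    have hP : Ideal.IsPrime P := hP'
    have hcP : Ideal.comap (algebraMap B (Localization.AtPrime Q)) P ≤ Q := fun x hx => not_not.mp fun hxQ =>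
      hP.ne_top (Ideal.eq_top_of_isUnit_mem _ hx
        (IsLocalization.map_units (Localization.AtPrime Q) (⟨x, hxQ⟩ : Q.primeCompl)))
    exact (hQ.2 ⟨Ideal.IsPrime.comap _, bot_le⟩ hcP) ha
  obtain ⟨k, hk⟩ := this
  rw [← map_pow] at hk
  obtain ⟨⟨s, hs⟩, hsk⟩ := (IsLocalization.map_eq_zero_iff Q.primeCompl (Localization.AtPrime Q) _).mp hk
  obtain ⟨m, hm⟩ := ht (a ^ k) s (pow_ne_zero k ha0) (by rw [Algebra.smul_def, map_pow, mul_comm]; exact hsk)
  rw [Algebra.smul_def, map_pow] at hm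
  rcases hQp.mem_or_mem (show algebraMap A B g ^ m * s ∈ Q from hm ▸ Q.zero_mem) with h | h
  · exact hq (hQq (hQp.mem_of_pow_mem m h))
  · exact hs h

/-- Over an affine base with irreducible space, points of nearby fibres lie in the closure of the
generic fibre. -/
theorem exists_le_over_nilradical (A B : Type u) [CommRing A] [CommRing B] [Algebra A B]
    [Algebra.FiniteType A B] [IrreducibleSpace (PrimeSpectrum A)] :
    ∃ U : Set (PrimeSpectrum A), IsOpen U ∧ U.Nonempty ∧
      ∀ q : PrimeSpectrum B, PrimeSpectrum.comap (algebraMap A B) q ∈ U →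
        ∃ q' : PrimeSpectrum B, q'.asIdeal ≤ q.asIdeal ∧ q'.asIdeal.comap (algebraMap A B) = nilradical A := by
  let N := nilradical A
  have hN : N.IsPrime := PrimeSpectrum.irreducibleSpace_iff_isPrime_nilradical.mp ‹_›
  let J := N.map (algebraMap A B)
  haveI : Algebra.FiniteType (A ⧸ N) (B ⧸ J) := .of_restrictScalars_finiteType A (A ⧸ N) (B ⧸ J)
  obtain ⟨g, hg, h⟩ := exists_le_over_generic (A ⧸ N) (B ⧸ J)
  obtain ⟨g, rfl⟩ := Ideal.Quotient.mk_surjective g
  refine ⟨PrimeSpectrum.basicOpen g, PrimeSpectrum.isOpen_basicOpen,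
    ⟨⟨N, hN⟩, fun h => hg (Ideal.Quotient.eq_zero_iff_mem.mpr h)⟩, fun q hq => ?_⟩
  obtain ⟨q₁, rfl⟩ : q ∈ Set.range (PrimeSpectrum.comap (Ideal.Quotient.mk J)) := by
    rw [range_comap_of_surjective _ _ Ideal.Quotient.mk_surjective, Ideal.mk_ker]
    exact Ideal.map_le_iff_le_comap.mpr (nilradical_le_prime (q.asIdeal.comap (algebraMap A B)))
  obtain ⟨q', hle, hq'⟩ := h q₁ hq
  refine ⟨PrimeSpectrum.comap (Ideal.Quotient.mk J) q', Ideal.comap_mono hle, ?_⟩
  show (q'.asIdeal.comap (Ideal.Quotient.mk J)).comap (algebraMap A B) = N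
  rw [Ideal.comap_comap, show (Ideal.Quotient.mk J).comp (algebraMap A B) =
    (algebraMap (A ⧸ N) (B ⧸ J)).comp (Ideal.Quotient.mk N) from rfl, ← Ideal.comap_comap, hq',
    ← RingHom.ker_eq_comap_bot, Ideal.mk_ker]

theorem exists_mem_closure_generic_affine {X S : Scheme.{u}} (f : X ⟶ S) [IsAffine X] [IsAffine S]
    [LocallyOfFiniteType f] [IrreducibleSpace S] :
    ∃ U : Set S, IsOpen U ∧ U.Nonempty ∧ ∀ x : X, f x ∈ U → x ∈ closure (f ⁻¹' {genericPoint S}) := by
  letI := f.appTop.hom.toAlgebra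
  have : Algebra.FiniteType Γ(S, ⊤) Γ(X, ⊤) :=
    HasRingHomProperty.appTop @LocallyOfFiniteType f inferInstance
  haveI : IrreducibleSpace (PrimeSpectrum Γ(S, ⊤)) := by
    show IrreducibleSpace (Spec Γ(S, ⊤))
    rw [irreducibleSpace_def, Set.top_eq_univ, ← S.isoSpec.hom.surjective.range_eq, ← Set.image_univ]
    exact (IrreducibleSpace.isIrreducible_univ _).image _ S.isoSpec.hom.continuous.continuousOn
  obtain ⟨U, hU, ⟨p, hp⟩, h⟩ := exists_le_over_nilradical Γ(S, ⊤) Γ(X, ⊤)
  have hnat : ∀ x, S.isoSpec.hom (f x) = PrimeSpectrum.comap f.appTop.hom (X.isoSpec.hom x) := fun x => by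
    rw [← Scheme.Hom.comp_apply, ← Scheme.isoSpec_hom_naturality, Scheme.Hom.comp_apply]
    rfl
  obtain ⟨s, hs⟩ := S.isoSpec.hom.surjective p
  refine ⟨S.isoSpec.hom ⁻¹' U, hU.preimage S.isoSpec.hom.continuous,
    ⟨s, show S.isoSpec.hom s ∈ U from hs.symm ▸ hp⟩, fun x hx => ?_⟩
  obtain ⟨q', hle, hq'⟩ := h (X.isoSpec.hom x) (show _ ∈ U from hnat x ▸ hx)
  obtain ⟨x', rfl⟩ := X.isoSpec.hom.surjective q'
  have hspec : x' ⤳ x := X.isoSpec.hom.isOpenEmbedding.isInducing.specializes_iff.mp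
    ((PrimeSpectrum.le_iff_specializes _ _).mp hle)
  refine hspec.mem_closed isClosed_closure (subset_closure ?_)
  show f x' = genericPoint S
  refine S.isoSpec.hom.isOpenEmbedding.injective ?_
  rw [hnat]
  have hgen : IsGenericPoint (S.isoSpec.hom (genericPoint S)) (⊤ : Set (Spec Γ(S, ⊤))) := by
    simpa [S.isoSpec.hom.surjective.range_eq] using (genericPoint_spec S).image S.isoSpec.hom.continuous
  have hN : (nilradical Γ(S, ⊤)).IsPrime := PrimeSpectrum.irreducibleSpace_iff_isPrime_nilradical.mp ‹_›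
  have h2 : IsGenericPoint (⟨nilradical Γ(S, ⊤), hN⟩ : PrimeSpectrum Γ(S, ⊤)) (⊤ : Set (PrimeSpectrum Γ(S, ⊤))) := by
    rw [IsGenericPoint, ← PrimeSpectrum.zeroLocus_vanishingIdeal_eq_closure]
    simp
  exact (PrimeSpectrum.ext hq').trans (h2.eq hgen)

/-- **Points of nearby fibres lie in the closure of the generic fibre.** -/
theorem exists_mem_closure_generic {X Y : Scheme.{u}} (f : X ⟶ Y) [LocallyOfFiniteType f] [QuasiCompact f]
    [IrreducibleSpace Y] :
    ∃ V : Y.Opens, (V : Set Y).Nonempty ∧ ∀ x : X, f x ∈ V → x ∈ closure (f ⁻¹' {genericPoint Y}) := by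
  obtain ⟨_, ⟨(V : Y.Opens), hV, rfl⟩, hη, -⟩ := Y.isBasis_affineOpens.exists_subset_of_mem_open
    (Set.mem_univ (genericPoint Y)) isOpen_univ
  obtain ⟨ι, _, W, hWa, hW, hcov⟩ := exists_finite_cover f hV
  haveI : IsAffine V := hV
  haveI : Nonempty V.toScheme := ⟨⟨_, hη⟩⟩
  haveI : IrreducibleSpace V.toScheme := V.ι.isOpenEmbedding.irreducibleSpace
  have hgen : V.ι (genericPoint V.toScheme) = genericPoint Y := by
    refine ((genericPoint_spec V.toScheme).image V.ι.continuous).eq ?_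
    rw [Set.image_univ, Scheme.Opens.range_ι]
    have hd : closure (V : Set Y) = Set.univ := by
      rw [← dense_iff_closure_eq]
      exact V.2.dense ⟨_, hη⟩
    rw [hd]
    exact genericPoint_spec Y
  have h : ∀ i, ∃ U : Set V.toScheme, IsOpen U ∧ U.Nonempty ∧
      ∀ w : (W i).toScheme, f.resLE V (W i) (hW i) w ∈ U →
        w ∈ closure (f.resLE V (W i) (hW i) ⁻¹' {genericPoint V.toScheme}) := fun i => by
    haveI : IsAffine (W i) := hWa i
    exact exists_mem_closure_generic_affine _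
  choose U hU hne hd using h
  let U₀ : Set V.toScheme := ⋂ i, U i
  have hU₀ : IsOpen U₀ := isOpen_iInter_of_finite hU
  have hmem : genericPoint V.toScheme ∈ U₀ := Set.mem_iInter.mpr fun i =>
    ((genericPoint_spec _).mem_open_set_iff (hU i)).mpr (by simpa using hne i)
  refine ⟨⟨V.ι '' U₀, V.ι.isOpenEmbedding.isOpenMap _ hU₀⟩, ⟨_, _, hmem, rfl⟩, ?_⟩
  rintro x ⟨s, hs, hsx⟩
  have hxV : x ∈ f ⁻¹ᵁ V := by
    show f x ∈ V
    rw [← hsx]
    exact s.2
  obtain ⟨i, hi⟩ := Opens.mem_iSup.mp (hcov hxV)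
  have hr : ∀ w, V.ι (f.resLE V (W i) (hW i) w) = f ((W i).ι w) := fun w => by
    rw [← Scheme.Hom.comp_apply, f.resLE_comp_ι, Scheme.Hom.comp_apply]
  have hrs : f.resLE V (W i) (hW i) ⟨x, hi⟩ = s := V.ι.injective ((hr _).trans hsx.symm)
  have h1 := hd i ⟨x, hi⟩ (hrs ▸ Set.mem_iInter.mp hs i)
  refine closure_mono ?_ (image_closure_subset_closure_image (W i).ι.continuous ⟨_, h1, rfl⟩)
  rintro _ ⟨w, hw, rfl⟩
  show f ((W i).ι w) = genericPoint Y
  rw [← hr, show f.resLE V (W i) (hW i) w = genericPoint V.toScheme from hw, hgen]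

/-- A closed set containing the generic fibre contains the nearby fibres. -/
theorem exists_forall_mem_of_generic_subset {X Y : Scheme.{u}} (f : X ⟶ Y) [LocallyOfFiniteType f]
    [QuasiCompact f] [IrreducibleSpace Y] :
    ∃ V : Y.Opens, (V : Set Y).Nonempty ∧
      ∀ T : Set X, IsClosed T → f ⁻¹' {genericPoint Y} ⊆ T → ∀ x : X, f x ∈ V → x ∈ T := by
  obtain ⟨V, hV, h⟩ := exists_mem_closure_generic f
  exact ⟨V, hV, fun T hT hsub x hx => closure_minimal hsub hT (h x hx)⟩

end GrothLib.FibreDim6
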