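import Groth.Agent.Lib.Dim.Ring
import Mathlib.RingTheory.LocalRing.ResidueField.Fiber
import Mathlib.RingTheory.Localization.Integral
import Mathlib.RingTheory.Localization.BaseChange
import Mathlib.RingTheory.MvPolynomial.Localization
import Mathlib.RingTheory.NoetherNormalization
import Mathlib.RingTheory.IntegralClosure.IsIntegralClosure.Basic
import Mathlib.RingTheory.Ideal.GoingUp
import Mathlib.RingTheory.FiniteStability

set_option linter.style.haveILetI false

/-!
# The dimension of the fibres of a finite type algebra is constant near the generic point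
-/

universe u

open TensorProduct MvPolynomial

attribute [local instance] MvPolynomial.algebraMvPolynomial

noncomputable section

namespace GrothLib.FibreDim6

/-- A relation whose leading coefficient becomes a unit gives integrality. -/
theorem isIntegralElem_of_relation {R B R₀ T : Type*} [CommRing R] [CommRing B] [CommRing R₀] [CommRing T]
    (φ : R →+* B) (χ : B →+* T) (κ : R →+* R₀) (ψ : R₀ →+* T) (hc : ψ.comp κ = χ.comp φ)
    (q : Polynomial R) (β : B) (h0 : q.eval₂ φ β = 0) (hu : IsUnit (κ q.leadingCoeff)) :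
    ψ.IsIntegralElem (χ β) := by
  obtain ⟨r, hr, hr0⟩ := φ.isIntegralElem_leadingCoeff_mul q β h0
  have h1 : ψ.IsIntegralElem (χ (φ q.leadingCoeff * β)) := by
    refine ⟨r.map κ, hr.map κ, ?_⟩
    rw [Polynomial.eval₂_map, hc, ← Polynomial.hom_eval₂, hr0, map_zero]
  obtain ⟨v, hv⟩ := hu
  have h2 := RingHom.IsIntegralElem.mul ψ (ψ.isIntegralElem_map (x := (↑v⁻¹ : R₀))) h1
  have : ψ (↑v⁻¹ : R₀) * χ (φ q.leadingCoeff * β) = χ β := by
    rw [map_mul, ← RingHom.comp_apply χ φ, ← hc, RingHom.comp_apply, ← hv, ← mul_assoc, ← map_mul,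
      Units.inv_mul, map_one, one_mul]
  rwa [this] at h2

/-- Integrality on generators gives integrality. -/
theorem isIntegralElem_of_gens {A B R₀ T : Type*} [CommRing A] [CommRing B] [Algebra A B] [CommRing R₀]
    [CommRing T] (χ : B →+* T) (ψ : R₀ →+* T) (s : Set B) (hs : Algebra.adjoin A s = ⊤)
    (hA : ∀ a : A, χ (algebraMap A B a) ∈ ψ.range) (hg : ∀ β ∈ s, ψ.IsIntegralElem (χ β)) (b : B) :
    ψ.IsIntegralElem (χ b) := by
  have hb : b ∈ Algebra.adjoin A s := hs ▸ Algebra.mem_top
  induction hb using Algebra.adjoin_induction with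
  | mem x hx => exact hg x hx
  | algebraMap a =>
    obtain ⟨r, hr⟩ := hA a
    rw [← hr]
    exact ψ.isIntegralElem_map
  | add x y _ _ hx hy => rw [map_add]; exact RingHom.IsIntegralElem.add ψ hx hy
  | mul x y _ _ hx hy => rw [map_mul]; exact RingHom.IsIntegralElem.mul ψ hx hy

/-- Denominators of a polynomial over a residue field. -/
theorem exists_clear_denominators {A : Type*} [CommRing A] (p : Ideal A) [p.IsPrime] {σ : Type*}
    (f : MvPolynomial σ p.ResidueField) :
    ∃ a ∉ p, ∃ h : MvPolynomial σ A,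
      C (algebraMap A p.ResidueField a) * f = MvPolynomial.map (algebraMap A p.ResidueField) h := by
  induction f using MvPolynomial.induction_on with
  | C c =>
    obtain ⟨⟨x, y⟩, hxy⟩ := IsLocalization.surj (nonZeroDivisors (A ⧸ p)) c
    obtain ⟨a, ha⟩ := Ideal.Quotient.mk_surjective y.1
    obtain ⟨a', ha'⟩ := Ideal.Quotient.mk_surjective x
    refine ⟨a, fun hap => nonZeroDivisors.coe_ne_zero y
      (ha ▸ Ideal.Quotient.eq_zero_iff_mem.mpr hap), C a', ?_⟩
    have e : ∀ z : A, algebraMap A p.ResidueField z = algebraMap (A ⧸ p) p.ResidueField (Ideal.Quotient.mk p z) :=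
      fun z => IsScalarTower.algebraMap_apply A (A ⧸ p) p.ResidueField z
    rw [map_C, e a, e a', ha, ha', ← map_mul, mul_comm, hxy]
  | add f g hf hg =>
    obtain ⟨a, ha, u, hu⟩ := hf
    obtain ⟨b, hb, v, hv⟩ := hg
    refine ⟨a * b, fun h => ((Ideal.IsPrime.mem_or_mem ‹_› h).elim ha hb), C b * u + C a * v, ?_⟩
    simp only [map_add, map_mul, map_C, ← hu, ← hv]
    ring
  | mul_X f i hf =>
    obtain ⟨a, ha, u, hu⟩ := hf
    refine ⟨a, ha, u * X i, ?_⟩
    rw [map_mul, map_X, ← hu]
    ring

variable (A B : Type u) [CommRing A] [IsDomain A] [CommRing B] [Algebra A B] [Algebra.FiniteType A B]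

/-- Noether normalisation of the generic fibre, with denominators cleared. -/
theorem exists_noether_relations [Nontrivial (FractionRing A ⊗[A] B)] :
    ∃ (n : ℕ) (φ : MvPolynomial (Fin n) A →ₐ[A] B), Function.Injective φ ∧
      ∀ β : B, ∃ (q : Polynomial (MvPolynomial (Fin n) A)) (a : A),
        a ≠ 0 ∧ q.leadingCoeff = C a ∧ q.eval₂ φ.toRingHom β = 0 := by
  classical
  let K := FractionRing A
  let ι : B →ₐ[A] K ⊗[A] B := Algebra.TensorProduct.includeRight
  haveI hloc : IsLocalizedModule (nonZeroDivisors A) (TensorProduct.mk A K B 1) :=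
    inferInstance
  haveI : Algebra.FiniteType K (K ⊗[A] B) := inferInstance
  obtain ⟨n, g, hinj, hfin⟩ := exists_finite_inj_algHom_of_fg K (K ⊗[A] B)
  choose z hz using fun i => IsLocalizedModule.surj (nonZeroDivisors A) (TensorProduct.mk A K B 1) (g (X i))
  let c : Fin n → K := fun i => algebraMap A K (z i).2
  have hc : ∀ i, c i ≠ 0 := fun i =>
    IsFractionRing.to_map_ne_zero_of_mem_nonZeroDivisors (z i).2.2
  let σ : MvPolynomial (Fin n) K ≃ₐ[K] MvPolynomial (Fin n) K :=
    AlgEquiv.ofAlgHom (aeval fun i => C (c i) * X i) (aeval fun i => C (c i)⁻¹ * X i)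
      (MvPolynomial.algHom_ext fun i => by
        rw [AlgHom.comp_apply, aeval_X, map_mul, aeval_C, aeval_X, ← mul_assoc, MvPolynomial.algebraMap_eq, ← map_mul,
          inv_mul_cancel₀ (hc i), map_one, one_mul, AlgHom.id_apply])
      (MvPolynomial.algHom_ext fun i => by
        rw [AlgHom.comp_apply, aeval_X, map_mul, aeval_C, aeval_X, ← mul_assoc, MvPolynomial.algebraMap_eq, ← map_mul,
          mul_inv_cancel₀ (hc i), map_one, one_mul, AlgHom.id_apply])
  let g' : MvPolynomial (Fin n) K →ₐ[K] K ⊗[A] B := g.comp σ.toAlgHom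
  have hg'inj : Function.Injective g' := hinj.comp σ.injective
  have hg'fin : g'.toRingHom.Finite := RingHom.Finite.comp hfin σ.toRingEquiv.finite
  let φ : MvPolynomial (Fin n) A →ₐ[A] B := aeval fun i => (z i).1
  have hcomm : ∀ h, ι (φ h) = g' (MvPolynomial.map (algebraMap A K) h) := by
    intro h
    have : ι.toRingHom.comp φ.toRingHom = g'.toRingHom.comp (MvPolynomial.map (algebraMap A K)) := by
      refine MvPolynomial.ringHom_ext (fun a => ?_) fun i => ?_
      · simp [φ, ι, g', Algebra.TensorProduct.algebraMap_apply]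
        rw [show ∀ y, σ (C y) = C y from fun y => σ.commutes y, show ∀ y, g (C y) = algebraMap K _ y from
          fun y => g.commutes y, Algebra.TensorProduct.algebraMap_apply, Algebra.algebraMap_self_apply]
      · have := hz i
        simp only [RingHom.comp_apply, AlgHom.toRingHom_eq_coe, RingHom.coe_coe, map_X, aeval_X, φ, g', σ,
          AlgHom.comp_apply, AlgEquiv.coe_toAlgHom, AlgEquiv.ofAlgHom_apply, map_mul]
        rw [show g (C (c i)) = algebraMap K (K ⊗[A] B) (c i) from g.commutes (c i), ← Algebra.smul_def,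
          algebraMap_smul]
        exact this.symm
    exact congr($this h)
  have hφinj : Function.Injective φ := fun x y hxy =>
    MvPolynomial.map_injective _ (IsFractionRing.injective A K) (hg'inj (by rw [← hcomm, ← hcomm, hxy]))
  refine ⟨n, φ, hφinj, ?_⟩
  intro β
  obtain ⟨P, hP, hP0⟩ := hg'fin.to_isIntegral (ι β)
  obtain ⟨b, hb, hbP⟩ := IsLocalization.integerNormalization_spec
    ((nonZeroDivisors A).map (C (σ := Fin n))) P
  obtain ⟨a, ha, rfl⟩ := hb
  set q := IsLocalization.integerNormalization ((nonZeroDivisors A).map (C (σ := Fin n))) P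
  have hmapinj : Function.Injective (algebraMap (MvPolynomial (Fin n) A) (MvPolynomial (Fin n) K)) :=
    MvPolynomial.map_injective _ (IsFractionRing.injective A K)
  have hsm : q.map (algebraMap (MvPolynomial (Fin n) A) (MvPolynomial (Fin n) K)) =
      Polynomial.C (algebraMap (MvPolynomial (Fin n) A) (MvPolynomial (Fin n) K) (C a)) * P := by
    rw [hbP, ← algebraMap_smul (MvPolynomial (Fin n) K) (C a : MvPolynomial (Fin n) A) P, Polynomial.smul_eq_C_mul]
  have hlc : q.leadingCoeff = C a := by
    apply hmapinj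
    rw [← Polynomial.leadingCoeff_map_of_injective hmapinj, hsm, Polynomial.leadingCoeff_mul,
      Polynomial.leadingCoeff_C, hP.leadingCoeff, mul_one]
  have hzero : ι (q.eval₂ φ.toRingHom β) = 0 := by
    show ι.toRingHom _ = 0
    rw [Polynomial.hom_eval₂, show ι.toRingHom.comp φ.toRingHom = g'.toRingHom.comp
      (algebraMap (MvPolynomial (Fin n) A) (MvPolynomial (Fin n) K)) from RingHom.ext hcomm,
      ← Polynomial.eval₂_map, hsm, Polynomial.eval₂_mul]
    show _ * P.eval₂ g'.toRingHom (ι β) = 0
    rw [hP0, mul_zero]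
  obtain ⟨⟨c', hc'⟩, hcq⟩ := (IsLocalizedModule.eq_zero_iff (nonZeroDivisors A) (TensorProduct.mk A K B 1)).mp hzero
  refine ⟨Polynomial.C (C c') * q, c' * a,
    mul_ne_zero (nonZeroDivisors.ne_zero hc') (nonZeroDivisors.ne_zero ha), ?_, ?_⟩
  · rw [Polynomial.leadingCoeff_mul, Polynomial.leadingCoeff_C, hlc, map_mul]
  · rw [Polynomial.eval₂_mul, Polynomial.eval₂_C]
    show φ (C c') * _ = 0
    rw [show φ (C c') = algebraMap A B c' from φ.commutes c', ← Algebra.smul_def]
    exact hcq

/-- **The fibres of a finite type algebra over a domain have constant dimension on a nonempty basic open.** -/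
theorem exists_fiber_dim_eq :
    ∃ (g : A) (d : WithBot ℕ∞), g ≠ 0 ∧
      ∀ (p : Ideal A) [p.IsPrime], g ∉ p → ringKrullDim (p.Fiber B) = d := by
  classical
  let K := FractionRing A
  let ι : B →ₐ[A] K ⊗[A] B := Algebra.TensorProduct.includeRight
  haveI hloc : IsLocalizedModule (nonZeroDivisors A) (TensorProduct.mk A K B 1) :=
    inferInstance
  by_cases hsub : Subsingleton (K ⊗[A] B)
  · obtain ⟨⟨a, ha⟩, hab⟩ := (IsLocalizedModule.eq_zero_iff (nonZeroDivisors A) (TensorProduct.mk A K B 1)).mp
      (Subsingleton.elim ((TensorProduct.mk A K B 1) (1 : B)) 0)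
    refine ⟨a, ⊥, nonZeroDivisors.ne_zero ha, fun p _ hp => ?_⟩
    have : Subsingleton (p.Fiber B) := by
      refine subsingleton_of_zero_eq_one ?_
      have hu : IsUnit (algebraMap A p.ResidueField a) :=
        isUnit_iff_ne_zero.mpr fun h => hp (Ideal.algebraMap_residueField_eq_zero.mp h)
      have h0 : algebraMap A p.ResidueField a • (1 : p.Fiber B) = 0 := by
        rw [algebraMap_smul, Algebra.TensorProduct.one_def, ← TensorProduct.tmul_smul,
          show a • (1 : B) = 0 from hab, TensorProduct.tmul_zero]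
      exact (hu.smul_eq_zero.mp h0).symm
    exact ringKrullDim_eq_bot_of_subsingleton
  haveI : Nontrivial (FractionRing A ⊗[A] B) := not_subsingleton_iff_nontrivial.mp hsub
  obtain ⟨n, φ, hφinj, hrel⟩ := exists_noether_relations A B
  obtain ⟨s, hs⟩ := Algebra.FiniteType.out (R := A) (A := B)
  choose q a ha hlc hq0 using hrel
  let G : A := ∏ β ∈ s, a β
  have hG : G ≠ 0 := Finset.prod_ne_zero_iff.mpr fun β _ => ha β
  refine ⟨G, n, hG, fun p _ hp => ?_⟩
  let χ : B →+* p.Fiber B := Algebra.TensorProduct.includeRight.toRingHom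
  let ψ : MvPolynomial (Fin n) p.ResidueField →ₐ[p.ResidueField] p.Fiber B := aeval fun i => χ (φ (X i))
  let κ : MvPolynomial (Fin n) A →+* MvPolynomial (Fin n) p.ResidueField :=
    MvPolynomial.map (algebraMap A p.ResidueField)
  have hψ : ψ.toRingHom.comp κ = χ.comp φ.toRingHom := by
    refine MvPolynomial.ringHom_ext (fun x => ?_) fun i => ?_
    · simp only [RingHom.comp_apply, κ, map_C, χ]
      show ψ (C (algebraMap A p.ResidueField x)) = Algebra.TensorProduct.includeRight (φ (C x))
      rw [show φ (C x) = algebraMap A B x from φ.commutes x,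
        show ψ (C (algebraMap A p.ResidueField x)) = algebraMap p.ResidueField (p.Fiber B) _ from ψ.commutes _,
        AlgHom.commutes, ← IsScalarTower.algebraMap_apply]
    · simp [κ, χ, ψ]
  have hdiv : ∀ β ∈ s, a β ∉ p := fun β hβ h => hp (Ideal.mem_of_dvd _ (Finset.dvd_prod_of_mem a hβ) h)
  have hA : ∀ x : A, χ (algebraMap A B x) ∈ ψ.toRingHom.range := fun x => ⟨κ (C x), by
    rw [← RingHom.comp_apply, hψ, RingHom.comp_apply]
    exact congrArg χ (φ.commutes x)⟩
  have hint : ψ.toRingHom.IsIntegral := by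
    intro x
    induction x using TensorProduct.induction_on with
    | zero => rw [← map_zero ψ.toRingHom]; exact ψ.toRingHom.isIntegralElem_map
    | add x y hx hy => exact RingHom.IsIntegralElem.add _ hx hy
    | tmul k b =>
      rw [show k ⊗ₜ[A] b = ψ (C k) * χ b by
        rw [show ψ (C k) = algebraMap p.ResidueField (p.Fiber B) k from ψ.commutes k]
        simp [χ, Algebra.TensorProduct.algebraMap_apply]]
      refine RingHom.IsIntegralElem.mul ψ.toRingHom (ψ.toRingHom.isIntegralElem_map) ?_
      refine isIntegralElem_of_gens χ ψ.toRingHom s hs hA (fun β hβ => ?_) b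
      refine isIntegralElem_of_relation φ.toRingHom χ κ ψ.toRingHom hψ (q β) β (hq0 β) ?_
      rw [hlc, show κ (C (a β)) = C (algebraMap A p.ResidueField (a β)) from map_C _ _]
      exact (isUnit_iff_ne_zero.mpr fun h => hdiv β hβ (Ideal.algebraMap_residueField_eq_zero.mp h)).map C
  -- a prime of `B` over the generic point of the affine space over `p`
  let P : Ideal (MvPolynomial (Fin n) A) := RingHom.ker κ
  have hPp : P.IsPrime := RingHom.ker_isPrime κ
  let R' := Localization.Away (C G : MvPolynomial (Fin n) A)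
  let S' := Localization.Away (φ (C G))
  let Φ : R' →+* S' := IsLocalization.Away.map R' S' φ.toRingHom (C G)
  have hΦc : Φ.comp (algebraMap _ R') = (algebraMap B S').comp φ.toRingHom :=
    IsLocalization.map_comp _
  haveI : IsLocalization ((Submonoid.powers (C G : MvPolynomial (Fin n) A)).map φ.toRingHom) S' := by
    rw [Submonoid.map_powers]
    exact inferInstanceAs (IsLocalization.Away (φ (C G)) S')
  have hΦinj : Function.Injective Φ :=
    IsLocalization.map_injective_of_injective (Submonoid.powers (C G : MvPolynomial (Fin n) A)) R' S' hφinj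
  have hΦint : Φ.IsIntegral := by
    intro x
    obtain ⟨b, ⟨_, k, rfl⟩, rfl⟩ := IsLocalization.exists_mk'_eq (Submonoid.powers (φ (C G))) x
    have hx : IsLocalization.mk' S' b (⟨φ (C G) ^ k, k, rfl⟩ : Submonoid.powers (φ (C G))) =
        algebraMap B S' b *
          Φ (IsLocalization.mk' R' 1 (⟨C G ^ k, k, rfl⟩ : Submonoid.powers (C G : MvPolynomial (Fin n) A))) := by
      rw [IsLocalization.mk'_eq_iff_eq_mul, mul_assoc]
      have : Φ (IsLocalization.mk' R' 1 (⟨C G ^ k, k, rfl⟩ : Submonoid.powers (C G : MvPolynomial (Fin n) A))) *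
          algebraMap B S' (φ (C G) ^ k) = 1 := by
        rw [← map_pow φ, show algebraMap B S' (φ (C G ^ k)) = Φ (algebraMap _ R' (C G ^ k)) from
          congr($hΦc.symm (C G ^ k)), ← map_mul, IsLocalization.mk'_spec, map_one, map_one]
      rw [this, mul_one]
    rw [hx]
    refine RingHom.IsIntegralElem.mul Φ ?_ Φ.isIntegralElem_map
    refine isIntegralElem_of_gens (algebraMap B S') Φ s hs (fun x => ⟨algebraMap (MvPolynomial (Fin n) A) R' (C x), ?_⟩) (fun β hβ => ?_) b
    · rw [← RingHom.comp_apply, hΦc, RingHom.comp_apply]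
      exact congrArg _ (φ.commutes x)
    · refine isIntegralElem_of_relation φ.toRingHom (algebraMap B S') (algebraMap _ R') Φ hΦc (q β) β (hq0 β) ?_
      rw [hlc]
      refine isUnit_of_dvd_unit ?_ (IsLocalization.Away.algebraMap_isUnit (C G : MvPolynomial (Fin n) A))
      exact map_dvd _ (map_dvd C (Finset.dvd_prod_of_mem a hβ))
  have hGP : C G ∉ P := fun h => hp (Ideal.algebraMap_residueField_eq_zero.mp
    (C_injective _ _ (by rw [map_zero, ← map_C (algebraMap A p.ResidueField) G]; exact h)))
  have hdisj : Disjoint (Submonoid.powers (C G : MvPolynomial (Fin n) A) : Set (MvPolynomial (Fin n) A)) P :=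
    Set.disjoint_left.mpr fun x ⟨k, hk⟩ hx => hGP (hPp.mem_of_pow_mem k ((show C G ^ k = x from hk).symm ▸ hx))
  have hP' := IsLocalization.isPrime_of_isPrime_disjoint (Submonoid.powers (C G : MvPolynomial (Fin n) A)) R' P hPp hdisj
  have hcP := IsLocalization.under_map_of_isPrime_disjoint (Submonoid.powers (C G : MvPolynomial (Fin n) A)) R' hPp hdisj
  letI := Φ.toAlgebra
  haveI : Algebra.IsIntegral R' S' := ⟨hΦint⟩
  obtain ⟨Q', -, hQ', hQ'P⟩ := Ideal.exists_ideal_over_prime_of_isIntegral (R := R') (S := S')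
    (P.map (algebraMap _ R')) ⊥
    (by rw [← RingHom.ker_eq_comap_bot, show algebraMap R' S' = Φ from rfl,
      (RingHom.injective_iff_ker_eq_bot _).1 hΦinj]; exact bot_le)
  have hmem : ∀ h, algebraMap B S' (φ h) ∈ Q' ↔ h ∈ P := fun h => by
    conv_rhs => rw [← hcP, Ideal.mem_comap, ← hQ'P, Ideal.mem_comap]
    exact Iff.of_eq (congrArg (· ∈ Q') congr($hΦc.symm h))
  let Q : Ideal B := Q'.comap (algebraMap B S')
  have : Q.IsPrime := Ideal.IsPrime.comap _
  have hQp : p = Q.comap (algebraMap A B) := by
    ext x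
    rw [Ideal.mem_comap, Ideal.mem_comap, ← φ.commutes x, hmem]
    show x ∈ p ↔ κ (C x) = 0
    rw [show κ (C x) = C (algebraMap A p.ResidueField x) from map_C _ _, ← map_zero C, C_inj,
      Ideal.algebraMap_residueField_eq_zero]
  let θ : p.Fiber B →ₐ[A] Q.ResidueField :=
    Algebra.TensorProduct.lift (Ideal.ResidueField.mapₐ p Q (Algebra.ofId _ _) hQp)
      (IsScalarTower.toAlgHom _ _ _) fun _ _ => .all _ _
  have hinjψ : Function.Injective ψ := by
    refine (injective_iff_map_eq_zero ψ).mpr fun f hf => ?_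
    obtain ⟨x, hx, h, hh⟩ := exists_clear_denominators p f
    have h0 : θ (χ (φ h)) = 0 := by
      rw [show χ (φ h) = ψ (κ h) from congr($hψ.symm h), show κ h = C (algebraMap A p.ResidueField x) * f from hh.symm,
        map_mul, hf, mul_zero, map_zero]
    have : φ h ∈ Q := Ideal.algebraMap_residueField_eq_zero.mp (by
      rw [← h0]
      simp [θ, χ])
    have hκ : κ h = 0 := (hmem h).mp this
    rw [show κ h = _ from hh.symm, mul_eq_zero] at hκ
    exact hκ.resolve_left fun hC => hx (Ideal.algebraMap_residueField_eq_zero.mp (C_injective _ _ (by rw [map_zero]; exact hC)))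
  letI := ψ.toRingHom.toAlgebra
  haveI : Algebra.IsIntegral (MvPolynomial (Fin n) p.ResidueField) (p.Fiber B) := ⟨hint⟩
  rw [GrothLib.Dim.ringKrullDim_eq_of_isIntegral (R := MvPolynomial (Fin n) p.ResidueField) hinjψ,
    MvPolynomial.ringKrullDim_of_isNoetherianRing, ringKrullDim_eq_zero_of_field, zero_add, Nat.card_fin]

end GrothLib.FibreDim6
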